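import Cfsg.Agent.Lib.Conway.Nf

/-!
# Links between the representatives (generated)
-/

set_option autoImplicit false
set_option maxRecDepth 100000

namespace Cfsg.Agent.Lib.Conway

open Cfsg Cfsg.Agent.Lib.Compute Cfsg.Agent.Lib.Golay Cfsg.Agent.Lib.M24
open Cfsg.Agent.Lib.KnownSimple.Leech

theorem toF_ofF (F : ℕ → ℤ) {j : ℕ} (hj : j < 24) : toF (ofF F) j = F j := ofF_pt F hj

/-- A matrix acts on vectors given by digits. -/
theorem mat_apply {S : List (List (ℕ × ℤ))} {f : Equiv.Perm LL}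
    (hc : S.all colsOK = true)
    (hf : ∀ (x : LL) (j : ℕ), j < 24 → dotS (rowOf S j) (toF x) = 8 * ((f x : LL) : Vec) (pt j))
    {x y : LL} {F G : ℕ → ℤ} (hx : x.1 = ofF F) (hy : y.1 = ofF G)
    (hv : allBelow (fun j => decide (dotS (rowOf S j) F = 8 * G j)) 24 = true) : f x = y := by
  apply Subtype.ext
  funext a
  have h1 := hf x (idx a) (idx_lt a)
  rw [pt_idx] at h1
  have h2 : dotS (rowOf S (idx a)) (toF x) = dotS (rowOf S (idx a)) F := by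
    apply dotS_congr (cols_of_all hc _)
    intro j hj
    rw [hx]
    exact toF_ofF F hj
  have h3 : dotS (rowOf S (idx a)) F = 8 * G (idx a) := of_decide_eq_true ((allBelow_iff _ _).1 hv (idx a) (idx_lt a))
  rw [h2, h3] at h1
  rw [hy]
  show _ = G (idx a)
  omega

theorem cols_of_chkElt {S S' : List (List (ℕ × ℤ))} (h : chkElt S S' = true) : S.all colsOK = true := by
  unfold chkElt at h
  simp only [Bool.and_eq_true] at h
  exact h.1.1.1.1.1.1

/-- A link between two vectors given by digits. -/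
theorem orb_of_mat {S S' : List (List (ℕ × ℤ))} (h : chkElt S S' = true) {x y : LL} {F G : ℕ → ℤ} (hx : x.1 = ofF F) (hy : y.1 = ofF G)
    (hv : allBelow (fun j => decide (dotS (rowOf S j) F = 8 * G j)) 24 = true) : Orb x y := by
  obtain ⟨f, hf, hact⟩ := exists_elt h
  exact ⟨f, hf, mat_apply (cols_of_chkElt h) hact hx hy hv⟩

/-- The matrix of the link from B. -/
def matB : List (List (ℕ × ℤ)) := [[(1, 4), (2, 4), (7, 4), (10, 4)], [(14, 4), (17, 4), (20, -4), (21, -4)], [(14, -4), (17, 4), (20, -4), (21, 4)], [(5, 4), (13, 4), (18, -4), (23, -4)], [(0, 4), (3, -4), (4, -4), (12, 4)], [(14, 4), (17, 4), (20, 4), (21, 4)], [(5, -4), (13, 4), (18, -4), (23, 4)], [(1, -4), (2, 4), (7, 4), (10, -4)], [(6, -4), (8, 4), (11, -4), (15, 4)], [(9, 4), (16, 4), (19, 4), (22, 4)], [(5, -4), (13, -4), (18, -4), (23, -4)], [(1, 4), (2, -4), (7, 4), (10, -4)], [(0, 4), (3, 4), (4, -4), (12, -4)], [(9, 4),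 (16, -4), (19, -4), (22, 4)], [(9, 4), (16, 4), (19, -4), (22, -4)], [(6, -4), (8, -4), (11, -4), (15, -4)], [(1, 4), (2, 4), (7, -4), (10, -4)], [(6, 4), (8, -4), (11, -4), (15, 4)], [(6, -4), (8, -4), (11, 4), (15, 4)], [(5, -4), (13, 4), (18, 4), (23, -4)], [(14, 4), (17, -4), (20, -4), (21, 4)], [(0, -4), (3, 4), (4, -4), (12, 4)], [(9, -4), (16, 4), (19, -4), (22, 4)], [(0, 4), (3, 4), (4, 4), (12, 4)]]
/-- Its transpose. -/
def matBT : List (List (ℕ × ℤ)) := [[(4, 4), (12, 4), (21, -4), (23, 4)], [(0, 4), (7, -4), (11, 4), (16, 4)], [(0, 4), (7, 4), (11, -4), (16, 4)], [(4, -4), (12, 4), (21, 4), (23, 4)], [(4, -4), (12, -4), (21, -4), (23, 4)], [(3, 4), (6, -4), (10, -4), (19, -4)], [(8, -4), (15, -4), (17, 4), (18, -4)], [(0, 4), (7, 4), (11, 4), (16, -4)], [(8, 4), (15, -4), (17, -4), (18, -4)], [(9, 4), (13, 4), (14, 4), (22, -4)], [(0, 4), (7, -4), (11, -4), (16, -4)], [(8, -4), (15,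 -4), (17, -4), (18, 4)], [(4, 4), (12, -4), (21, 4), (23, 4)], [(3, 4), (6, 4), (10, -4), (19, 4)], [(1, 4), (2, -4), (5, 4), (20, 4)], [(8, 4), (15, -4), (17, 4), (18, 4)], [(9, 4), (13, -4), (14, 4), (22, 4)], [(1, 4), (2, 4), (5, 4), (20, -4)], [(3, -4), (6, -4), (10, -4), (19, 4)], [(9, 4), (13, -4), (14, -4), (22, -4)], [(1, -4), (2, -4), (5, 4), (20, -4)], [(1, -4), (2, 4), (5, 4), (20, 4)], [(9, 4), (13, 4), (14, -4), (22, 4)], [(3, -4), (6, 4), (10, -4), (19, -4)]]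
theorem matB_chk : chkElt matB matBT = true := by decide +kernel
theorem linkB_v : allBelow (fun j => decide (dotS (rowOf matB j) (vP PB) = 8 * vP PA j)) 24 = true := by decide +kernel
theorem linkB : Orb rB rA := orb_of_mat matB_chk rfl rfl linkB_v

/-- The matrix of the link from C. -/
def matC : List (List (ℕ × ℤ)) := [[(1, 2), (2, 2), (3, 2), (4, 2), (6, 2), (9, 2), (10, 2), (11, 2), (12, 2), (13, 2), (15, -2), (16, 2), (18, 2), (19, 2), (21, 2), (23, -2)], [(1, 2), (2, -2), (3, 2), (4, 2), (6, -2), (9, 2), (10, -2), (11, 2), (12, 2), (13, -2), (15, 2), (16, -2), (18, 2), (19, -2), (21, 2), (23, 2)], [(1, -2), (2, 2), (3, 2), (4, -2), (6, 2), (9, -2), (10, 2), (11, 2), (12, 2), (13, 2), (15, 2), (16, -2), (18, 2), (19, -2), (21, -2), (23, 2)], [(0, -2), (3, 4), (5, 2), (7, 2), (8, -2), (14, -2), (17, 2), (18, -4), (20, -2), (22, 2)], [(0, -2), (5, -2), (7, 2), (8, 2), (11, 4), (12, -4), (14,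 2), (17, -2), (20, -2), (22, 2)], [(1, -2), (2, -2), (3, -2), (4, -2), (6, -2), (9, 2), (10, 2), (11, 2), (12, 2), (13, 2), (15, 2), (16, 2), (18, -2), (19, 2), (21, 2), (23, 2)], [(0, 2), (5, -2), (7, 2), (8, -2), (14, -2), (16, -4), (17, -2), (19, 4), (20, 2), (22, 2)], [(1, -2), (2, -2), (3, 2), (4, -2), (6, -2), (9, -2), (10, -2), (11, 2), (12, 2), (13, -2), (15, -2), (16, 2), (18, 2), (19, 2), (21, -2), (23, -2)], [(0, -2), (5, -2), (7, 2), (8, 2), (10, -4), (13, 4), (14, -2), (17, 2), (20, 2), (22, -2)], [(0, -2), (2, 4), (5, 2), (6, -4), (7, 2), (8, -2), (14, 2), (17, -2), (20, 2), (22, -2)], [(0, -2), (3, -4), (5, 2), (7, 2), (8, -2), (14, -2), (17, 2), (18, 4), (20, -2), (22, 2)], [(1, 2), (2, -2), (3, 2), (4, 2), (6, -2), (9, -2), (10, 2), (11, -2), (12, -2), (13, 2), (15, 2), (16, 2), (18, 2), (19, 2), (21, -2), (23, 2)], [(0, -2), (5, -2), (7, 2), (8, 2), (11, -4), (12, 4), (14, 2),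 (17, -2), (20, -2), (22, 2)], [(0, -2), (2, -4), (5, 2), (6, 4), (7, 2), (8, -2), (14, 2), (17, -2), (20, 2), (22, -2)], [(0, 2), (5, -2), (7, 2), (8, -2), (9, -4), (14, 2), (17, 2), (20, -2), (21, 4), (22, -2)], [(0, -2), (1, 4), (4, -4), (5, -2), (7, -2), (8, -2), (14, 2), (17, 2), (20, 2), (22, 2)], [(1, 2), (2, -2), (3, -2), (4, 2), (6, -2), (9, -2), (10, 2), (11, 2), (12, 2), (13, 2), (15, -2), (16, -2), (18, -2), (19, -2), (21, -2), (23, -2)], [(0, -2), (5, -2), (7, 2), (8, 2), (10, 4), (13, -4), (14, -2), (17, 2), (20, 2), (22, -2)], [(0, 2), (1, 4), (4, -4), (5, 2), (7, 2), (8, 2), (14, -2), (17, -2), (20, -2), (22, -2)], [(0, -2), (5, 2), (7, -2), (8, 2), (14, 2), (16, -4), (17, 2), (19, 4), (20, -2), (22, -2)], [(1, -2), (2, -2), (3, 2), (4, -2), (6, -2), (9, 2), (10, 2), (11, -2), (12, -2), (13, 2), (15, -2), (16, -2), (18, 2), (19, -2), (21, 2), (23, -2)], [(0, -2), (5, -2), (7, -2),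 (8, -2), (14, -2), (15, 4), (17, -2), (20, -2), (22, -2), (23, -4)], [(0, -2), (5, 2), (7, -2), (8, 2), (9, -4), (14, -2), (17, -2), (20, 2), (21, 4), (22, 2)], [(0, 2), (5, 2), (7, 2), (8, 2), (14, 2), (15, 4), (17, 2), (20, 2), (22, 2), (23, -4)]]
/-- Its transpose. -/
def matCT : List (List (ℕ × ℤ)) := [[(3, -2), (4, -2), (6, 2), (8, -2), (9, -2), (10, -2), (12, -2), (13, -2), (14, 2), (15, -2), (17, -2), (18, 2), (19, -2), (21, -2), (22, -2), (23, 2)], [(0, 2), (1, 2), (2, -2), (5, -2), (7, -2), (11, 2), (15, 4), (16, 2), (18, 4), (20, -2)], [(0, 2), (1, -2), (2, 2), (5, -2), (7, -2), (9, 4), (11, -2), (13, -4), (16, -2), (20, -2)], [(0, 2), (1, 2), (2, 2), (3, 4), (5, -2), (7, 2), (10, -4), (11, 2), (16, -2), (20, 2)], [(0, 2), (1, 2), (2, -2), (5, -2), (7, -2), (11, 2), (15, -4), (16, 2), (18, -4), (20, -2)], [(3, 2), (4, -2), (6, -2), (8, -2), (9, 2), (10, 2), (12, -2), (13, 2), (14, -2),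 (15, -2), (17, -2), (18, 2), (19, 2), (21, -2), (22, 2), (23, 2)], [(0, 2), (1, -2), (2, 2), (5, -2), (7, -2), (9, -4), (11, -2), (13, 4), (16, -2), (20, -2)], [(3, 2), (4, 2), (6, 2), (8, 2), (9, 2), (10, 2), (12, 2), (13, 2), (14, 2), (15, -2), (17, 2), (18, 2), (19, -2), (21, -2), (22, -2), (23, 2)], [(3, -2), (4, 2), (6, -2), (8, 2), (9, -2), (10, -2), (12, 2), (13, -2), (14, -2), (15, -2), (17, 2), (18, 2), (19, 2), (21, -2), (22, 2), (23, 2)], [(0, 2), (1, 2), (2, -2), (5, 2), (7, -2), (11, -2), (14, -4), (16, -2), (20, 2), (22, -4)], [(0, 2), (1, -2), (2, 2), (5, 2), (7, -2), (8, -4), (11, 2), (16, 2), (17, 4), (20, 2)], [(0, 2), (1, 2), (2, 2), (4, 4), (5, 2), (7, 2), (11, -2), (12, -4), (16, 2), (20, -2)], [(0, 2), (1, 2), (2, 2), (4, -4), (5, 2), (7, 2), (11, -2), (12, 4), (16, 2), (20, -2)], [(0, 2), (1, -2), (2, 2), (5, 2), (7, -2), (8, 4), (11, 2), (16, 2), (17, -4), (20, 2)], [(3,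 -2), (4, 2), (6, -2), (8, -2), (9, 2), (10, -2), (12, 2), (13, 2), (14, 2), (15, 2), (17, -2), (18, -2), (19, 2), (21, -2), (22, -2), (23, 2)], [(0, -2), (1, 2), (2, 2), (5, 2), (7, -2), (11, 2), (16, -2), (20, -2), (21, 4), (23, 4)], [(0, 2), (1, -2), (2, -2), (5, 2), (6, -4), (7, 2), (11, 2), (16, -2), (19, -4), (20, -2)], [(3, 2), (4, -2), (6, -2), (8, 2), (9, -2), (10, 2), (12, -2), (13, -2), (14, 2), (15, 2), (17, 2), (18, -2), (19, 2), (21, -2), (22, -2), (23, 2)], [(0, 2), (1, 2), (2, 2), (3, -4), (5, -2), (7, 2), (10, 4), (11, 2), (16, -2), (20, 2)], [(0, 2), (1, -2), (2, -2), (5, 2), (6, 4), (7, 2), (11, 2), (16, -2), (19, 4), (20, -2)], [(3, -2), (4, -2), (6, 2), (8, 2), (9, 2), (10, -2), (12, -2), (13, 2), (14, -2), (15, 2), (17, 2), (18, -2), (19, -2), (21, -2), (22, 2), (23, 2)], [(0, 2), (1, 2), (2, -2), (5, 2), (7, -2), (11, -2), (14, 4), (16, -2), (20, 2), (22, 4)], [(3, 2), (4,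 2), (6, 2), (8, -2), (9, -2), (10, 2), (12, 2), (13, -2), (14, -2), (15, 2), (17, -2), (18, -2), (19, -2), (21, -2), (22, 2), (23, 2)], [(0, -2), (1, 2), (2, 2), (5, 2), (7, -2), (11, 2), (16, -2), (20, -2), (21, -4), (23, -4)]]
theorem matC_chk : chkElt matC matCT = true := by decide +kernel
theorem linkC_v : allBelow (fun j => decide (dotS (rowOf matC j) (vP PC) = 8 * vP PA j)) 24 = true := by decide +kernel
theorem linkC : Orb rC rA := orb_of_mat matC_chk rfl rfl linkC_v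

/-- The matrix of the link from P3. -/
def matP3 : List (List (ℕ × ℤ)) := [[(4, 4), (11, -4), (19, 4), (20, 4)], [(6, 4), (8, -4), (10, 4), (13, 4)], [(4, 4), (11, 4), (19, -4), (20, 4)], [(7, -4), (9, 4), (16, 4), (18, 4)], [(6, -4), (8, 4), (10, 4), (13, 4)], [(2, 4), (5, -4), (14, 4), (17, 4)], [(4, -4), (11, 4), (19, 4), (20, 4)], [(12, 4), (15, 4), (21, -4), (22, 4)], [(6, 4), (8, 4), (10, -4), (13, 4)], [(0, 4), (1, -4), (3, -4), (23, -4)], [(7, 4), (9, 4), (16, 4), (18, -4)], [(12, 4), (15, 4), (21, 4), (22, -4)], [(12, -4), (15, 4), (21, 4), (22, 4)], [(0, -4), (1, -4), (3, -4), (23, 4)], [(4, 4), (11, 4), (19, 4), (20, -4)], [(7, 4), (9, -4), (16, 4), (18, 4)], [(2, 4), (5, 4), (14, -4), (17, 4)], [(12, 4), (15, -4), (21, 4), (22, 4)], [(0, -4), (1, 4), (3, -4), (23, -4)], [(2, 4), (5, 4), (14, 4), (17, -4)], [(6, 4), (8, 4), (10, 4), (13, -4)], [(7, 4), (9, 4), (16, -4), (18, 4)], [(2,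 -4), (5, 4), (14, 4), (17, 4)], [(0, -4), (1, -4), (3, 4), (23, -4)]]
/-- Its transpose. -/
def matP3T : List (List (ℕ × ℤ)) := [[(9, 4), (13, -4), (18, -4), (23, -4)], [(9, -4), (13, -4), (18, 4), (23, -4)], [(5, 4), (16, 4), (19, 4), (22, -4)], [(9, -4), (13, -4), (18, -4), (23, 4)], [(0, 4), (2, 4), (6, -4), (14, 4)], [(5, -4), (16, 4), (19, 4), (22, 4)], [(1, 4), (4, -4), (8, 4), (20, 4)], [(3, -4), (10, 4), (15, 4), (21, 4)], [(1, -4), (4, 4), (8, 4), (20, 4)], [(3, 4), (10, 4), (15, -4), (21, 4)], [(1, 4), (4, 4), (8, -4), (20, 4)], [(0, -4), (2, 4), (6, 4), (14, 4)], [(7, 4), (11, 4), (12, -4), (17, 4)], [(1, 4), (4, 4), (8, 4), (20, -4)], [(5, 4), (16, -4), (19, 4), (22, 4)], [(7, 4), (11, 4), (12, 4), (17, -4)], [(3, 4), (10, 4), (15, 4), (21, -4)], [(5, 4), (16, 4), (19, -4), (22, 4)], [(3, 4), (10, -4), (15, 4), (21, 4)], [(0, 4), (2, -4), (6, 4), (14, 4)], [(0, 4), (2, 4), (6, 4), (14,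 -4)], [(7, -4), (11, 4), (12, 4), (17, 4)], [(7, 4), (11, -4), (12, 4), (17, 4)], [(9, -4), (13, 4), (18, -4), (23, -4)]]
theorem matP3_chk : chkElt matP3 matP3T = true := by decide +kernel
theorem linkP3_v : allBelow (fun j => decide (dotS (rowOf matP3 j) (vP PP3) = 8 * vP PP5 j)) 24 = true := by decide +kernel
theorem linkP3 : Orb rP3 rP5 := orb_of_mat matP3_chk rfl rfl linkP3_v

/-- The matrix of the link from D. -/
def matD : List (List (ℕ × ℤ)) := [[(2, 2), (3, -2), (5, 2), (7, 2), (8, 2), (10, -2), (11, 2), (13, 2), (14, -2), (15, 2), (16, -2), (18, 2), (19, 2), (20, 2), (21, -2), (22, -2)], [(0, -2), (1, -2), (4, 2), (6, 2), (9, 2), (12, 2), (17, 2), (20, -4), (21, -4), (23, 2)], [(2, 2), (3, 2), (5, 2), (7, -2), (8, 2), (10, -2), (11, 2), (13, -2), (14, 2), (15, -2), (16, -2), (18, 2), (19, 2), (20, -2), (21, 2), (22, 2)], [(0, 2), (1, -2), (2, 4), (4, 2), (5, -4), (6, -2), (9, -2), (12,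 2), (17, -2), (23, 2)], [(0, -2), (1, 2), (4, 2), (6, 2), (9, -2), (12, -2), (13, 4), (15, -4), (17, -2), (23, 2)], [(2, 2), (3, -2), (5, 2), (7, -2), (8, -2), (10, 2), (11, -2), (13, 2), (14, -2), (15, 2), (16, 2), (18, 2), (19, 2), (20, -2), (21, 2), (22, 2)], [(2, -2), (3, 2), (5, -2), (7, -2), (8, 2), (10, 2), (11, -2), (13, 2), (14, 2), (15, 2), (16, -2), (18, 2), (19, 2), (20, 2), (21, -2), (22, 2)], [(0, 2), (1, 2), (4, -2), (6, 2), (7, -4), (9, -2), (12, 2), (17, 2), (22, -4), (23, 2)], [(0, 2), (1, -2), (4, -2), (6, -2), (9, 2), (12, 2), (13, 4), (15, -4), (17, 2), (23, -2)], [(0, 2), (1, -2), (4, 2), (6, 2), (9, -2), (12, -2), (17, 2), (18, 4), (19, -4), (23, -2)], [(0, -2), (1, 2), (2, 4), (4, -2), (5, -4), (6, 2), (9, 2), (12, -2), (17, 2), (23, -2)], [(0, 2), (1, 2), (4, -2), (6, 2), (7, 4), (9, -2), (12, 2), (17, 2), (22, 4), (23, 2)], [(0, -2), (1, 2), (3, 4), (4, 2), (6, -2), (9,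 -2), (12, 2), (14, -4), (17, 2), (23, -2)], [(0, -2), (1, 2), (4, -2), (6, -2), (9, 2), (12, 2), (17, -2), (18, 4), (19, -4), (23, 2)], [(2, 2), (3, 2), (5, 2), (7, -2), (8, -2), (10, -2), (11, 2), (13, 2), (14, 2), (15, 2), (16, 2), (18, -2), (19, -2), (20, 2), (21, -2), (22, 2)], [(0, 2), (1, 2), (4, 2), (6, -2), (9, 2), (10, 4), (11, 4), (12, -2), (17, 2), (23, 2)], [(2, 2), (3, 2), (5, 2), (7, 2), (8, -2), (10, 2), (11, -2), (13, -2), (14, 2), (15, -2), (16, 2), (18, 2), (19, 2), (20, 2), (21, -2), (22, -2)], [(0, 2), (1, -2), (3, 4), (4, -2), (6, 2), (9, 2), (12, -2), (14, -4), (17, -2), (23, 2)], [(0, 2), (1, 2), (4, 2), (6, 2), (8, -4), (9, 2), (12, 2), (16, -4), (17, -2), (23, -2)], [(2, 2), (3, 2), (5, 2), (7, 2), (8, 2), (10, 2), (11, -2), (13, 2), (14, 2), (15, 2), (16, -2), (18, -2), (19, -2), (20, -2), (21, 2), (22, -2)], [(0, -2), (1, -2), (4, 2), (6, 2), (9, 2), (12, 2), (17, 2),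 (20, 4), (21, 4), (23, 2)], [(0, 2), (1, 2), (4, 2), (6, -2), (9, 2), (10, -4), (11, -4), (12, -2), (17, 2), (23, 2)], [(2, -2), (3, 2), (5, -2), (7, 2), (8, -2), (10, -2), (11, 2), (13, 2), (14, 2), (15, 2), (16, 2), (18, 2), (19, 2), (20, -2), (21, 2), (22, -2)], [(0, 2), (1, 2), (4, 2), (6, 2), (8, 4), (9, 2), (12, 2), (16, 4), (17, -2), (23, -2)]]
/-- Its transpose. -/
def matDT : List (List (ℕ × ℤ)) := [[(1, -2), (3, 2), (4, -2), (7, 2), (8, 2), (9, 2), (10, -2), (11, 2), (12, -2), (13, -2), (15, 2), (17, 2), (18, 2), (20, -2), (21, 2), (23, 2)], [(1, -2), (3, -2), (4, 2), (7, 2), (8, -2), (9, -2), (10, 2), (11, 2), (12, 2), (13, 2), (15, 2), (17, -2), (18, 2), (20, -2), (21, 2), (23, 2)], [(0, 2), (2, 2), (3, 4), (5, 2), (6, -2), (10, 4), (14, 2), (16, 2), (19, 2), (22, -2)], [(0, -2), (2, 2), (5, -2), (6, 2), (12, 4), (14, 2), (16, 2), (17, 4), (19, 2), (22, 2)], [(1, 2), (3, 2), (4, 2),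 (7, -2), (8, -2), (9, 2), (10, -2), (11, -2), (12, 2), (13, -2), (15, 2), (17, -2), (18, 2), (20, 2), (21, 2), (23, 2)], [(0, 2), (2, 2), (3, -4), (5, 2), (6, -2), (10, -4), (14, 2), (16, 2), (19, 2), (22, -2)], [(1, 2), (3, -2), (4, 2), (7, 2), (8, -2), (9, 2), (10, 2), (11, 2), (12, -2), (13, -2), (15, -2), (17, 2), (18, 2), (20, 2), (21, -2), (23, 2)], [(0, 2), (2, -2), (5, -2), (6, -2), (7, -4), (11, 4), (14, -2), (16, 2), (19, 2), (22, 2)], [(0, 2), (2, 2), (5, -2), (6, 2), (14, -2), (16, -2), (18, -4), (19, 2), (22, -2), (23, 4)], [(1, 2), (3, -2), (4, -2), (7, -2), (8, 2), (9, -2), (10, 2), (11, -2), (12, -2), (13, 2), (15, 2), (17, 2), (18, 2), (20, 2), (21, 2), (23, 2)], [(0, -2), (2, -2), (5, 2), (6, 2), (14, -2), (15, 4), (16, 2), (19, 2), (21, -4), (22, -2)], [(0, 2), (2, 2), (5, -2), (6, -2), (14, 2), (15, 4), (16, -2), (19, -2), (21, -4), (22, 2)], [(1, 2), (3, 2), (4, -2), (7, 2),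 (8, 2), (9, -2), (10, -2), (11, 2), (12, 2), (13, 2), (15, -2), (17, -2), (18, 2), (20, 2), (21, -2), (23, 2)], [(0, 2), (2, -2), (4, 4), (5, 2), (6, 2), (8, 4), (14, 2), (16, -2), (19, 2), (22, 2)], [(0, -2), (2, 2), (5, -2), (6, 2), (12, -4), (14, 2), (16, 2), (17, -4), (19, 2), (22, 2)], [(0, 2), (2, -2), (4, -4), (5, 2), (6, 2), (8, -4), (14, 2), (16, -2), (19, 2), (22, 2)], [(0, -2), (2, -2), (5, 2), (6, -2), (14, 2), (16, 2), (18, -4), (19, -2), (22, 2), (23, 4)], [(1, 2), (3, -2), (4, -2), (7, 2), (8, 2), (9, 2), (10, 2), (11, 2), (12, 2), (13, -2), (15, 2), (17, -2), (18, -2), (20, 2), (21, 2), (23, -2)], [(0, 2), (2, 2), (5, 2), (6, 2), (9, 4), (13, 4), (14, -2), (16, 2), (19, -2), (22, 2)], [(0, 2), (2, 2), (5, 2), (6, 2), (9, -4), (13, -4), (14, -2), (16, 2), (19, -2), (22, 2)], [(0, 2), (1, -4), (2, -2), (5, -2), (6, 2), (14, 2), (16, 2), (19, -2), (20, 4), (22, -2)], [(0, -2), (1, -4),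 (2, 2), (5, 2), (6, -2), (14, -2), (16, -2), (19, 2), (20, 4), (22, 2)], [(0, -2), (2, 2), (5, 2), (6, 2), (7, -4), (11, 4), (14, 2), (16, -2), (19, -2), (22, -2)], [(1, 2), (3, 2), (4, 2), (7, 2), (8, -2), (9, -2), (10, -2), (11, 2), (12, -2), (13, 2), (15, 2), (17, 2), (18, -2), (20, 2), (21, 2), (23, -2)]]
theorem matD_chk : chkElt matD matDT = true := by decide +kernel
theorem linkD_v : allBelow (fun j => decide (dotS (rowOf matD j) (vP PD) = 8 * vP PP5 j)) 24 = true := by decide +kernel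
theorem linkD : Orb rD rP5 := orb_of_mat matD_chk rfl rfl linkD_v

/-- The matrix of the link from O4. -/
def matO4 : List (List (ℕ × ℤ)) := [[(12, 4), (14, 4), (18, 4), (20, -4)], [(3, 4), (9, 4), (13, -4), (16, 4)], [(4, 4), (6, 4), (11, 4), (23, -4)], [(7, 4), (15, -4), (17, -4), (19, -4)], [(7, 4), (15, -4), (17, 4), (19, 4)], [(12, 4), (14, -4), (18, -4), (20, -4)], [(4, 4), (6, 4), (11, -4), (23, 4)], [(0, 4), (2, 4), (5, 4), (10, -4)], [(7, 4), (15, 4), (17, 4), (19, -4)], [(1, 4), (8, 4), (21, 4), (22, -4)], [(7, 4), (15, 4), (17, -4), (19, 4)], [(0, -4), (2, -4), (5, 4), (10, -4)], [(1, 4), (8, -4), (21, 4), (22, 4)], [(1, 4), (8, 4), (21, -4), (22, 4)], [(12, 4), (14, -4), (18, 4), (20, 4)], [(3, 4), (9, -4), (13, -4), (16, -4)], [(4, 4), (6, -4), (11, 4), (23, 4)], [(1, 4), (8, -4), (21, -4), (22, -4)], [(0, 4), (2, -4), (5, 4), (10, 4)], [(12, 4), (14, 4), (18, -4), (20, 4)], [(3, 4),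 (9, -4), (13, 4), (16, 4)], [(3, 4), (9, 4), (13, 4), (16, -4)], [(4, 4), (6, -4), (11, -4), (23, -4)], [(0, -4), (2, 4), (5, 4), (10, 4)]]
/-- Its transpose. -/
def matO4T : List (List (ℕ × ℤ)) := [[(7, 4), (11, -4), (18, 4), (23, -4)], [(9, 4), (12, 4), (13, 4), (17, 4)], [(7, 4), (11, -4), (18, -4), (23, 4)], [(1, 4), (15, 4), (20, 4), (21, 4)], [(2, 4), (6, 4), (16, 4), (22, 4)], [(7, 4), (11, 4), (18, 4), (23, 4)], [(2, 4), (6, 4), (16, -4), (22, -4)], [(3, 4), (4, 4), (8, 4), (10, 4)], [(9, 4), (12, -4), (13, 4), (17, -4)], [(1, 4), (15, -4), (20, -4), (21, 4)], [(7, -4), (11, -4), (18, 4), (23, 4)], [(2, 4), (6, -4), (16, 4), (22, -4)], [(0, 4), (5, 4), (14, 4), (19, 4)], [(1, -4), (15, -4), (20, 4), (21, 4)], [(0, 4), (5, -4), (14, -4), (19, 4)], [(3, -4), (4, -4), (8, 4), (10, 4)], [(1, 4), (15, -4), (20, 4), (21, -4)], [(3, -4), (4, 4), (8, 4), (10, -4)], [(0, 4), (5, -4), (14, 4), (19,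 -4)], [(3, -4), (4, 4), (8, -4), (10, 4)], [(0, -4), (5, -4), (14, 4), (19, 4)], [(9, 4), (12, 4), (13, -4), (17, -4)], [(9, -4), (12, 4), (13, 4), (17, -4)], [(2, -4), (6, 4), (16, 4), (22, -4)]]
theorem matO4_chk : chkElt matO4 matO4T = true := by decide +kernel
theorem linkO4_v : allBelow (fun j => decide (dotS (rowOf matO4 j) (vP PO4) = 8 * vP PP5 j)) 24 = true := by decide +kernel
theorem linkO4 : Orb rO4 rP5 := orb_of_mat matO4_chk rfl rfl linkO4_v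

/-- The matrix of the link from F4. -/
def matF4 : List (List (ℕ × ℤ)) := [[(8, -4), (15, -4), (16, 4), (19, 4)], [(8, 4), (15, 4), (16, 4), (19, 4)], [(6, -4), (9, -4), (11, -4), (22, -4)], [(4, 4), (7, -4), (10, 4), (12, -4)], [(6, -4), (9, 4), (11, -4), (22, 4)], [(13, -4), (18, 4), (20, 4), (21, -4)], [(6, -4), (9, -4), (11, 4), (22, 4)], [(0, 4), (1, 4), (2, -4), (3, -4)], [(6, 4), (9, -4), (11, -4), (22, 4)], [(5, 4), (14, -4), (17, 4), (23, -4)], [(4, 4), (7, 4), (10, -4), (12, -4)], [(5, -4), (14, -4), (17, -4), (23, -4)], [(0, -4), (1, 4), (2, -4), (3, 4)], [(0, 4), (1, -4), (2, -4), (3, 4)], [(8, -4), (15, 4), (16, 4), (19, -4)], [(13, 4), (18, 4), (20, -4), (21, -4)], [(4, 4), (7, -4), (10, -4), (12, 4)], [(5, -4), (14, 4), (17, 4), (23, -4)], [(5, -4), (14, -4), (17, 4), (23, 4)], [(13, -4), (18, 4), (20, -4), (21, 4)], [(8, -4), (15, 4), (16, -4), (19, 4)], [(13, -4), (18, -4), (20,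 -4), (21, -4)], [(4, -4), (7, -4), (10, -4), (12, -4)], [(0, 4), (1, 4), (2, 4), (3, 4)]]
/-- Its transpose. -/
def matF4T : List (List (ℕ × ℤ)) := [[(7, 4), (12, -4), (13, 4), (23, 4)], [(7, 4), (12, 4), (13, -4), (23, 4)], [(7, -4), (12, -4), (13, -4), (23, 4)], [(7, -4), (12, 4), (13, 4), (23, 4)], [(3, 4), (10, 4), (16, 4), (22, -4)], [(9, 4), (11, -4), (17, -4), (18, -4)], [(2, -4), (4, -4), (6, -4), (8, 4)], [(3, -4), (10, 4), (16, -4), (22, -4)], [(0, -4), (1, 4), (14, -4), (20, -4)], [(2, -4), (4, 4), (6, -4), (8, -4)], [(3, 4), (10, -4), (16, -4), (22, -4)], [(2, -4), (4, -4), (6, 4), (8, -4)], [(3, -4), (10, -4), (16, 4), (22, -4)], [(5, -4), (15, 4), (19, -4), (21, -4)], [(9, -4), (11, -4), (17, 4), (18, -4)], [(0, -4), (1, 4), (14, 4), (20, 4)], [(0, 4), (1, 4), (14, 4), (20, -4)], [(9, 4), (11, -4), (17, 4), (18, 4)], [(5, 4), (15, 4), (19, 4), (21, -4)], [(0, 4), (1, 4), (14, -4),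 (20, 4)], [(5, 4), (15, -4), (19, -4), (21, -4)], [(5, -4), (15, -4), (19, 4), (21, -4)], [(2, -4), (4, 4), (6, 4), (8, 4)], [(9, -4), (11, -4), (17, -4), (18, 4)]]
theorem matF4_chk : chkElt matF4 matF4T = true := by decide +kernel
theorem linkF4_v : allBelow (fun j => decide (dotS (rowOf matF4 j) (vP PF4) = 8 * vP PE8 j)) 24 = true := by decide +kernel
theorem linkF4 : Orb rF4 rE8 := orb_of_mat matF4_chk rfl rfl linkF4_v

/-- The matrix of the link from O44. -/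
def matO44 : List (List (ℕ × ℤ)) := [[(0, -2), (1, -2), (2, -2), (3, 2), (4, 2), (7, 2), (10, 2), (12, -2), (13, 4), (15, 4)], [(0, 2), (1, 2), (2, 2), (3, -2), (4, -2), (7, -2), (10, -2), (12, 2), (13, 4), (15, 4)], [(0, 2), (1, -2), (2, -2), (3, 2), (4, -2), (7, -2), (10, 2), (12, 2), (17, 4), (22, 4)], [(5, -2), (6, 2), (8, -2), (9, -2), (11, -2), (13, 2), (14, 2), (15, -2), (16, -2), (17, 2), (18, 2), (19, -2), (20, 2), (21, 2), (22, -2), (23, 2)], [(0, 2), (1, 2), (2, -2), (3, 2), (4, 2), (7, -2), (10, -2), (12, -2), (16, 4), (21, 4)], [(0, -2), (1, -2), (2, 2), (3, 2), (4, 2), (7, -2), (9, 4), (10, -2), (12, 2), (14, 4)], [(0, 2), (1, -2), (2, -2), (3, 2), (4, -2), (7, -2), (10, 2), (12, 2), (17, -4), (22, -4)], [(0, -2), (1, -2), (2, -2), (3, -2), (4, -2), (5, 4), (6, 4), (7, -2), (10, -2), (12, -2)], [(0, -2), (1, -2), (2, 2), (3, -2), (4, -2), (7, 2), (10, 2), (12, 2), (16, 4), (21, 4)],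 [(5, -2), (6, 2), (8, 2), (9, 2), (11, 2), (13, 2), (14, -2), (15, -2), (16, 2), (17, 2), (18, -2), (19, -2), (20, 2), (21, -2), (22, -2), (23, -2)], [(5, 2), (6, -2), (8, 2), (9, -2), (11, -2), (13, 2), (14, 2), (15, -2), (16, 2), (17, -2), (18, -2), (19, -2), (20, 2), (21, -2), (22, 2), (23, 2)], [(5, -2), (6, 2), (8, 2), (9, 2), (11, -2), (13, -2), (14, -2), (15, 2), (16, -2), (17, -2), (18, -2), (19, -2), (20, 2), (21, 2), (22, 2), (23, 2)], [(0, 2), (1, -2), (2, 2), (3, 2), (4, -2), (7, 2), (8, -4), (10, -2), (12, -2), (18, -4)], [(0, 2), (1, -2), (2, 2), (3, 2), (4, -2), (7, 2), (8, 4), (10, -2), (12, -2), (18, 4)], [(0, -2), (1, 2), (2, -2), (3, 2), (4, -2), (7, 2), (10, -2), (11, 4), (12, 2), (23, 4)], [(0, 2), (1, 2), (2, -2), (3, -2), (4, -2), (7, 2), (9, 4), (10, 2), (12, -2), (14, 4)], [(5, 2), (6, -2), (8, 2), (9, -2), (11, 2), (13, -2), (14, 2), (15, 2), (16, -2), (17, 2), (18, -2),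 (19, -2), (20, 2), (21, 2), (22, -2), (23, -2)], [(5, -2), (6, 2), (8, 2), (9, -2), (11, -2), (13, -2), (14, 2), (15, 2), (16, 2), (17, 2), (18, -2), (19, 2), (20, -2), (21, -2), (22, -2), (23, 2)], [(5, 2), (6, -2), (8, -2), (9, 2), (11, -2), (13, -2), (14, -2), (15, 2), (16, 2), (17, 2), (18, 2), (19, -2), (20, 2), (21, -2), (22, -2), (23, 2)], [(0, -2), (1, 2), (2, 2), (3, 2), (4, -2), (7, -2), (10, 2), (12, -2), (19, -4), (20, -4)], [(0, -2), (1, 2), (2, -2), (3, 2), (4, -2), (7, 2), (10, -2), (11, -4), (12, 2), (23, -4)], [(0, -2), (1, 2), (2, 2), (3, 2), (4, -2), (7, -2), (10, 2), (12, -2), (19, 4), (20, 4)], [(5, 2), (6, -2), (8, 2), (9, 2), (11, -2), (13, 2), (14, -2), (15, -2), (16, -2), (17, 2), (18, -2), (19, 2), (20, -2), (21, 2), (22, -2), (23, 2)], [(0, 2), (1, 2), (2, 2), (3, 2), (4, 2), (5, 4), (6, 4), (7, 2), (10, 2), (12, 2)]]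
/-- Its transpose. -/
def matO44T : List (List (ℕ × ℤ)) := [[(0, -2), (1, 2), (2, 2), (4, 2), (5, -2), (6, 2), (7, -2), (8, -2), (12, 2), (13, 2), (14, -2), (15, 2), (19, -2), (20, -2), (21, -2), (23, 2)], [(0, -2), (1, 2), (2, -2), (4, 2), (5, -2), (6, -2), (7, -2), (8, -2), (12, -2), (13, -2), (14, 2), (15, 2), (19, 2), (20, 2), (21, 2), (23, 2)], [(0, -2), (1, 2), (2, -2), (4, -2), (5, 2), (6, -2), (7, -2), (8, 2), (12, 2), (13, 2), (14, -2), (15, -2), (19, 2), (20, -2), (21, 2), (23, 2)], [(0, 2), (1, -2), (2, 2), (4, 2), (5, 2), (6, 2), (7, -2), (8, -2), (12, 2), (13, 2), (14, 2), (15, -2), (19, 2), (20, 2), (21, 2), (23, 2)], [(0, 2), (1, -2), (2, -2), (4, 2), (5, 2), (6, -2), (7, -2), (8, -2), (12, -2), (13, -2), (14, -2), (15, -2), (19, -2), (20, -2), (21, -2), (23, 2)], [(3, -2), (7, 4), (9, -2), (10, 2), (11, -2), (16, 2), (17, -2), (18, 2), (22, 2), (23, 4)], [(3, 2), (7, 4), (9, 2),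 (10, -2), (11, 2), (16, -2), (17, 2), (18, -2), (22, -2), (23, 4)], [(0, 2), (1, -2), (2, -2), (4, -2), (5, -2), (6, -2), (7, -2), (8, 2), (12, 2), (13, 2), (14, 2), (15, 2), (19, -2), (20, 2), (21, -2), (23, 2)], [(3, -2), (9, 2), (10, 2), (11, 2), (12, -4), (13, 4), (16, 2), (17, 2), (18, -2), (22, 2)], [(3, -2), (5, 4), (9, 2), (10, -2), (11, 2), (15, 4), (16, -2), (17, -2), (18, 2), (22, 2)], [(0, 2), (1, -2), (2, 2), (4, -2), (5, -2), (6, 2), (7, -2), (8, 2), (12, -2), (13, -2), (14, -2), (15, 2), (19, 2), (20, -2), (21, 2), (23, 2)], [(3, -2), (9, 2), (10, -2), (11, -2), (14, 4), (16, 2), (17, -2), (18, -2), (20, -4), (22, -2)], [(0, -2), (1, 2), (2, 2), (4, -2), (5, 2), (6, 2), (7, -2), (8, 2), (12, -2), (13, -2), (14, 2), (15, -2), (19, -2), (20, 2), (21, -2), (23, 2)], [(0, 4), (1, 4), (3, 2), (9, 2), (10, 2), (11, -2), (16, -2), (17, -2), (18, -2), (22, 2)], [(3, 2), (5, 4), (9, -2), (10,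 2), (11, -2), (15, 4), (16, 2), (17, 2), (18, -2), (22, -2)], [(0, 4), (1, 4), (3, -2), (9, -2), (10, -2), (11, 2), (16, 2), (17, 2), (18, 2), (22, -2)], [(3, -2), (4, 4), (8, 4), (9, 2), (10, 2), (11, -2), (16, -2), (17, 2), (18, 2), (22, -2)], [(2, 4), (3, 2), (6, -4), (9, 2), (10, -2), (11, -2), (16, 2), (17, 2), (18, 2), (22, 2)], [(3, 2), (9, -2), (10, -2), (11, -2), (12, -4), (13, 4), (16, -2), (17, -2), (18, 2), (22, -2)], [(3, -2), (9, -2), (10, -2), (11, -2), (16, -2), (17, 2), (18, -2), (19, -4), (21, 4), (22, 2)], [(3, 2), (9, 2), (10, 2), (11, 2), (16, 2), (17, -2), (18, 2), (19, -4), (21, 4), (22, -2)], [(3, 2), (4, 4), (8, 4), (9, -2), (10, -2), (11, 2), (16, 2), (17, -2), (18, -2), (22, 2)], [(2, 4), (3, -2), (6, -4), (9, -2), (10, 2), (11, 2), (16, -2), (17, -2), (18, -2), (22, -2)], [(3, 2), (9, -2), (10, 2), (11, 2), (14, 4), (16, -2), (17, 2), (18, 2), (20, -4), (22, 2)]]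
theorem matO44_chk : chkElt matO44 matO44T = true := by decide +kernel
theorem linkO44_v : allBelow (fun j => decide (dotS (rowOf matO44 j) (vP PO44) = 8 * vP PE8 j)) 24 = true := by decide +kernel
theorem linkO44 : Orb rO44 rE8 := orb_of_mat matO44_chk rfl rfl linkO44_v

/-- The matrix of the link from H1. -/
def matH1 : List (List (ℕ × ℤ)) := [[(0, -2), (1, -2), (2, 2), (3, 2), (4, 2), (7, -2), (9, 4), (10, -2), (12, 2), (14, -4)], [(0, 2), (1, 2), (2, -2), (3, 2), (4, 2), (7, -2), (10, -2), (12, -2), (16, 4), (21, -4)], [(0, 2), (1, 2), (2, 2), (3, 2), (4, 2), (5, -4), (6, 4), (7, 2), (10, 2), (12, 2)], [(0, 2), (1, -2), (2, -2), (3, -2), (4, 2), (7, 2), (10, -2), (12, 2), (19, -4), (20, 4)], [(0, -2), (1, -2), (2, -2), (3, -2), (4, -2), (5, -4), (6, 4), (7, -2), (10, -2), (12, -2)], [(5, 2), (6, 2), (8, 2), (9, 2), (11, -2), (13, 2), (14, 2), (15, 2), (16, -2), (17, 2), (18, 2), (19, -2), (20,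 -2), (21, -2), (22, 2), (23, -2)], [(0, -2), (1, -2), (2, -2), (3, 2), (4, 2), (7, 2), (10, 2), (12, -2), (13, 4), (15, -4)], [(5, -2), (6, -2), (8, -2), (9, -2), (11, -2), (13, 2), (14, -2), (15, 2), (16, -2), (17, 2), (18, -2), (19, 2), (20, 2), (21, -2), (22, 2), (23, -2)], [(0, -2), (1, -2), (2, -2), (3, 2), (4, 2), (7, 2), (10, 2), (12, -2), (13, -4), (15, 4)], [(0, -2), (1, 2), (2, -2), (3, 2), (4, -2), (7, 2), (10, -2), (11, -4), (12, 2), (23, 4)], [(0, 2), (1, -2), (2, -2), (3, 2), (4, -2), (7, -2), (10, 2), (12, 2), (17, 4), (22, -4)], [(0, 2), (1, -2), (2, 2), (3, 2), (4, -2), (7, 2), (8, -4), (10, -2), (12, -2), (18, 4)], [(5, -2), (6, -2), (8, -2), (9, 2), (11, -2), (13, 2), (14, 2), (15, 2), (16, 2), (17, -2), (18, -2), (19, -2), (20, -2), (21, 2), (22, -2), (23, -2)], [(5, 2), (6, 2), (8, -2), (9, 2), (11, -2), (13, -2), (14, 2), (15, -2), (16, 2), (17, 2), (18, -2), (19, 2), (20,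 2), (21, 2), (22, 2), (23, -2)], [(0, 2), (1, 2), (2, -2), (3, -2), (4, -2), (7, 2), (9, 4), (10, 2), (12, -2), (14, -4)], [(5, 2), (6, 2), (8, 2), (9, -2), (11, -2), (13, 2), (14, -2), (15, 2), (16, 2), (17, -2), (18, 2), (19, 2), (20, 2), (21, 2), (22, -2), (23, -2)], [(0, -2), (1, 2), (2, 2), (3, 2), (4, -2), (7, -2), (10, 2), (12, -2), (19, -4), (20, 4)], [(0, -2), (1, 2), (2, -2), (3, 2), (4, -2), (7, 2), (10, -2), (11, 4), (12, 2), (23, -4)], [(0, -2), (1, 2), (2, -2), (3, -2), (4, 2), (7, -2), (8, -4), (10, 2), (12, 2), (18, 4)], [(5, 2), (6, 2), (8, -2), (9, -2), (11, 2), (13, 2), (14, -2), (15, 2), (16, 2), (17, 2), (18, -2), (19, -2), (20, -2), (21, 2), (22, 2), (23, 2)], [(0, 2), (1, 2), (2, -2), (3, 2), (4, 2), (7, -2), (10, -2), (12, -2), (16, -4), (21, 4)], [(5, -2), (6, -2), (8, 2), (9, -2), (11, -2), (13, -2), (14, -2), (15, -2), (16, 2), (17, 2), (18, 2), (19, -2), (20, -2), (21,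 2), (22, 2), (23, -2)], [(0, 2), (1, -2), (2, -2), (3, 2), (4, -2), (7, -2), (10, 2), (12, 2), (17, -4), (22, 4)], [(5, -2), (6, -2), (8, 2), (9, 2), (11, 2), (13, 2), (14, 2), (15, 2), (16, 2), (17, 2), (18, 2), (19, 2), (20, 2), (21, 2), (22, 2), (23, 2)]]
/-- Its transpose. -/
def matH1T : List (List (ℕ × ℤ)) := [[(0, -2), (1, 2), (2, 2), (3, 2), (4, -2), (6, -2), (8, -2), (9, -2), (10, 2), (11, 2), (14, 2), (16, -2), (17, -2), (18, -2), (20, 2), (22, 2)], [(0, -2), (1, 2), (2, 2), (3, -2), (4, -2), (6, -2), (8, -2), (9, 2), (10, -2), (11, -2), (14, 2), (16, 2), (17, 2), (18, 2), (20, 2), (22, -2)], [(0, 2), (1, -2), (2, 2), (3, -2), (4, -2), (6, -2), (8, -2), (9, -2), (10, -2), (11, 2), (14, -2), (16, 2), (17, -2), (18, -2), (20, -2), (22, -2)], [(0, 2), (1, 2), (2, 2), (3, -2), (4, -2), (6, 2), (8, 2), (9, 2), (10, 2), (11, 2), (14, -2), (16, 2), (17, 2), (18, -2), (20, 2), (22, 2)], [(0, 2),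 (1, 2), (2, 2), (3, 2), (4, -2), (6, 2), (8, 2), (9, -2), (10, -2), (11, -2), (14, -2), (16, -2), (17, -2), (18, 2), (20, 2), (22, -2)], [(2, -4), (4, -4), (5, 2), (7, -2), (12, -2), (13, 2), (15, 2), (19, 2), (21, -2), (23, -2)], [(2, 4), (4, 4), (5, 2), (7, -2), (12, -2), (13, 2), (15, 2), (19, 2), (21, -2), (23, -2)], [(0, -2), (1, -2), (2, 2), (3, 2), (4, -2), (6, 2), (8, 2), (9, 2), (10, -2), (11, 2), (14, 2), (16, -2), (17, 2), (18, -2), (20, -2), (22, -2)], [(5, 2), (7, -2), (11, -4), (12, -2), (13, -2), (15, 2), (18, -4), (19, -2), (21, 2), (23, 2)], [(0, 4), (5, 2), (7, -2), (12, 2), (13, 2), (14, 4), (15, -2), (19, -2), (21, -2), (23, 2)], [(0, -2), (1, -2), (2, 2), (3, -2), (4, -2), (6, 2), (8, 2), (9, -2), (10, 2), (11, -2), (14, 2), (16, 2), (17, -2), (18, 2), (20, -2), (22, 2)], [(5, -2), (7, -2), (9, -4), (12, -2), (13, -2), (15, -2), (17, 4), (19, 2), (21, -2), (23, 2)], [(0, 2),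 (1, -2), (2, 2), (3, 2), (4, -2), (6, -2), (8, -2), (9, 2), (10, 2), (11, -2), (14, -2), (16, -2), (17, 2), (18, 2), (20, -2), (22, 2)], [(5, 2), (6, 4), (7, 2), (8, -4), (12, 2), (13, -2), (15, 2), (19, 2), (21, -2), (23, 2)], [(0, -4), (5, 2), (7, -2), (12, 2), (13, 2), (14, -4), (15, -2), (19, -2), (21, -2), (23, 2)], [(5, 2), (6, -4), (7, 2), (8, 4), (12, 2), (13, -2), (15, 2), (19, 2), (21, -2), (23, 2)], [(1, 4), (5, -2), (7, -2), (12, 2), (13, 2), (15, 2), (19, 2), (20, -4), (21, 2), (23, 2)], [(5, 2), (7, 2), (10, 4), (12, -2), (13, 2), (15, -2), (19, 2), (21, 2), (22, -4), (23, 2)], [(5, 2), (7, -2), (11, 4), (12, -2), (13, -2), (15, 2), (18, 4), (19, -2), (21, 2), (23, 2)], [(3, -4), (5, -2), (7, 2), (12, -2), (13, 2), (15, 2), (16, -4), (19, -2), (21, -2), (23, 2)], [(3, 4), (5, -2), (7, 2), (12, -2), (13, 2), (15, 2), (16, 4), (19, -2), (21, -2), (23, 2)], [(1, -4), (5, -2), (7, -2),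 (12, 2), (13, 2), (15, 2), (19, 2), (20, 4), (21, 2), (23, 2)], [(5, 2), (7, 2), (10, -4), (12, -2), (13, 2), (15, -2), (19, 2), (21, 2), (22, 4), (23, 2)], [(5, -2), (7, -2), (9, 4), (12, -2), (13, -2), (15, -2), (17, -4), (19, 2), (21, -2), (23, 2)]]
theorem matH1_chk : chkElt matH1 matH1T = true := by decide +kernel
theorem linkH1_v : allBelow (fun j => decide (dotS (rowOf matH1 j) (vP PH1) = 8 * vP PE8 j)) 24 = true := by decide +kernel
theorem linkH1 : Orb rH1 rE8 := orb_of_mat matH1_chk rfl rfl linkH1_v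

/-- The matrix of the link from H0. -/
def matH0 : List (List (ℕ × ℤ)) := [[(5, -2), (6, 2), (8, 2), (9, -2), (11, -2), (13, 2), (14, 2), (15, -2), (16, 2), (17, -2), (18, -2), (19, -2), (20, 2), (21, -2), (22, 2), (23, 2)], [(5, -2), (6, -2), (8, 2), (9, -2), (11, -2), (13, 2), (14, -2), (15, 2), (16, 2), (17, -2), (18, 2), (19, 2), (20, 2), (21, 2), (22, -2), (23, -2)], [(0, -2), (1, -2), (2, 6), (3, -2), (4, -2), (7, -2), (10, -2), (12, -2)], [(5, 2), (6, 2), (8, -2), (9, 2), (11, -2), (13, 2), (14, 2), (15, 2), (16, 2), (17, -2), (18, -2), (19, -2), (20, -2), (21, 2), (22, -2), (23, -2)], [(0, 2), (1, 2), (2, 2), (3, -6), (4, 2), (7, 2), (10, 2), (12, 2)], [(5, -2), (6, -2), (8, -2), (9, 2), (11, 2), (13, 2), (14, 2), (15, 2), (16, -2), (17, -2), (18, -2), (19, 2), (20, 2), (21, -2), (22, -2), (23, 2)], [(0, 2), (1, 2), (2, 2), (3, 2), (4, -6), (7, 2), (10, 2), (12, 2)], [(5, -2), (6, 2), (8,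 -2), (9, 2), (11, -2), (13, -2), (14, -2), (15, 2), (16, 2), (17, 2), (18, 2), (19, -2), (20, 2), (21, -2), (22, -2), (23, 2)], [(0, 2), (1, -6), (2, 2), (3, 2), (4, 2), (7, 2), (10, 2), (12, 2)], [(0, -2), (1, -2), (2, -2), (3, -2), (4, -2), (7, 6), (10, -2), (12, -2)], [(5, 2), (6, -2), (8, -2), (9, -2), (11, -2), (13, 2), (14, 2), (15, -2), (16, -2), (17, 2), (18, 2), (19, -2), (20, 2), (21, 2), (22, -2), (23, 2)], [(0, -2), (1, -2), (2, -2), (3, -2), (4, -2), (7, -2), (10, 6), (12, -2)], [(5, 2), (6, -2), (8, 2), (9, 2), (11, 2), (13, 2), (14, -2), (15, -2), (16, 2), (17, 2), (18, -2), (19, -2), (20, 2), (21, -2), (22, -2), (23, -2)], [(5, 2), (6, 2), (8, 2), (9, -2), (11, 2), (13, 2), (14, -2), (15, 2), (16, -2), (17, -2), (18, 2), (19, -2), (20, -2), (21, -2), (22, -2), (23, 2)], [(5, -2), (6, 2), (8, 2), (9, 2), (11, -2), (13, 2), (14, -2), (15, -2), (16, -2), (17, 2), (18, -2), (19, 2),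 (20, -2), (21, 2), (22, -2), (23, 2)], [(5, 2), (6, 2), (8, 2), (9, 2), (11, -2), (13, -2), (14, 2), (15, -2), (16, -2), (17, -2), (18, 2), (19, 2), (20, 2), (21, -2), (22, -2), (23, -2)], [(5, 2), (6, 2), (8, -2), (9, -2), (11, -2), (13, 2), (14, -2), (15, 2), (16, -2), (17, 2), (18, -2), (19, 2), (20, 2), (21, -2), (22, 2), (23, -2)], [(0, 6), (1, -2), (2, -2), (3, -2), (4, -2), (7, -2), (10, -2), (12, -2)], [(0, 2), (1, 2), (2, 2), (3, 2), (4, 2), (7, 2), (10, 2), (12, -6)], [(5, -2), (6, 2), (8, -2), (9, 2), (11, 2), (13, 2), (14, -2), (15, -2), (16, -2), (17, -2), (18, 2), (19, -2), (20, 2), (21, 2), (22, 2), (23, -2)], [(5, 2), (6, 2), (8, -2), (9, -2), (11, 2), (13, -2), (14, -2), (15, -2), (16, 2), (17, -2), (18, -2), (19, 2), (20, 2), (21, 2), (22, -2), (23, 2)], [(5, -2), (6, 2), (8, -2), (9, -2), (11, 2), (13, 2), (14, 2), (15, -2), (16, 2), (17, 2), (18, 2), (19, 2), (20, -2), (21, -2),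 (22, -2), (23, -2)], [(5, -2), (6, 2), (8, 2), (9, -2), (11, 2), (13, -2), (14, 2), (15, 2), (16, -2), (17, 2), (18, -2), (19, -2), (20, 2), (21, 2), (22, -2), (23, -2)], [(5, 2), (6, 2), (8, 2), (9, 2), (11, 2), (13, 2), (14, 2), (15, 2), (16, 2), (17, 2), (18, 2), (19, 2), (20, 2), (21, 2), (22, 2), (23, 2)]]
/-- Its transpose. -/
def matH0T : List (List (ℕ × ℤ)) := [[(2, -2), (4, 2), (6, 2), (8, 2), (9, -2), (11, -2), (17, 6), (18, 2)], [(2, -2), (4, 2), (6, 2), (8, -6), (9, -2), (11, -2), (17, -2), (18, 2)], [(2, 6), (4, 2), (6, 2), (8, 2), (9, -2), (11, -2), (17, -2), (18, 2)], [(2, -2), (4, -6), (6, 2), (8, 2), (9, -2), (11, -2), (17, -2), (18, 2)], [(2, -2), (4, 2), (6, -6), (8, 2), (9, -2), (11, -2), (17, -2), (18, 2)], [(0, -2), (1, -2), (3, 2), (5, -2), (7, -2), (10, 2), (12, 2), (13, 2), (14, -2), (15, 2), (16, 2), (19, -2), (20, 2), (21, -2), (22, -2), (23, 2)], [(0, 2), (1, -2), (3,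 2), (5, -2), (7, 2), (10, -2), (12, -2), (13, 2), (14, 2), (15, 2), (16, 2), (19, 2), (20, 2), (21, 2), (22, 2), (23, 2)], [(2, -2), (4, 2), (6, 2), (8, 2), (9, 6), (11, -2), (17, -2), (18, 2)], [(0, 2), (1, 2), (3, -2), (5, -2), (7, -2), (10, -2), (12, 2), (13, 2), (14, 2), (15, 2), (16, -2), (19, -2), (20, -2), (21, -2), (22, 2), (23, 2)], [(0, -2), (1, -2), (3, 2), (5, 2), (7, 2), (10, -2), (12, 2), (13, -2), (14, 2), (15, 2), (16, -2), (19, 2), (20, -2), (21, -2), (22, -2), (23, 2)], [(2, -2), (4, 2), (6, 2), (8, 2), (9, -2), (11, 6), (17, -2), (18, 2)], [(0, -2), (1, -2), (3, -2), (5, 2), (7, -2), (10, -2), (12, 2), (13, 2), (14, -2), (15, -2), (16, -2), (19, 2), (20, 2), (21, 2), (22, 2), (23, 2)], [(2, -2), (4, 2), (6, 2), (8, 2), (9, -2), (11, -2), (17, -2), (18, -6)], [(0, 2), (1, 2), (3, 2), (5, 2), (7, -2), (10, 2), (12, 2), (13, 2), (14, 2), (15, -2), (16, 2), (19, 2), (20, -2), (21,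 2), (22, -2), (23, 2)], [(0, 2), (1, -2), (3, 2), (5, 2), (7, -2), (10, 2), (12, -2), (13, -2), (14, -2), (15, 2), (16, -2), (19, -2), (20, -2), (21, 2), (22, 2), (23, 2)], [(0, -2), (1, 2), (3, 2), (5, 2), (7, 2), (10, -2), (12, -2), (13, 2), (14, -2), (15, -2), (16, 2), (19, -2), (20, -2), (21, -2), (22, 2), (23, 2)], [(0, 2), (1, 2), (3, 2), (5, -2), (7, 2), (10, -2), (12, 2), (13, -2), (14, -2), (15, -2), (16, -2), (19, -2), (20, 2), (21, 2), (22, -2), (23, 2)], [(0, -2), (1, -2), (3, -2), (5, -2), (7, 2), (10, 2), (12, 2), (13, -2), (14, 2), (15, -2), (16, 2), (19, -2), (20, -2), (21, 2), (22, 2), (23, 2)], [(0, -2), (1, 2), (3, -2), (5, -2), (7, 2), (10, 2), (12, -2), (13, 2), (14, -2), (15, 2), (16, -2), (19, 2), (20, -2), (21, 2), (22, -2), (23, 2)], [(0, -2), (1, 2), (3, -2), (5, 2), (7, -2), (10, -2), (12, -2), (13, -2), (14, 2), (15, 2), (16, 2), (19, -2), (20, 2), (21, 2), (22, -2),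 (23, 2)], [(0, 2), (1, 2), (3, -2), (5, 2), (7, 2), (10, 2), (12, 2), (13, -2), (14, -2), (15, 2), (16, 2), (19, 2), (20, 2), (21, -2), (22, 2), (23, 2)], [(0, -2), (1, 2), (3, 2), (5, -2), (7, -2), (10, 2), (12, -2), (13, -2), (14, 2), (15, -2), (16, -2), (19, 2), (20, 2), (21, -2), (22, 2), (23, 2)], [(0, 2), (1, -2), (3, -2), (5, -2), (7, -2), (10, -2), (12, -2), (13, -2), (14, -2), (15, -2), (16, 2), (19, 2), (20, -2), (21, -2), (22, -2), (23, 2)], [(0, 2), (1, -2), (3, -2), (5, 2), (7, 2), (10, 2), (12, -2), (13, 2), (14, 2), (15, -2), (16, -2), (19, -2), (20, 2), (21, -2), (22, -2), (23, 2)]]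
theorem matH0_chk : chkElt matH0 matH0T = true := by decide +kernel
theorem linkH0_v : allBelow (fun j => decide (dotS (rowOf matH0 j) (vP PH0) = 8 * vP PE8 j)) 24 = true := by decide +kernel
theorem linkH0 : Orb rH0 rE8 := orb_of_mat matH0_chk rfl rfl linkH0_v

/-- The matrix of the link from O6. -/
def matO6 : List (List (ℕ × ℤ)) := [[(5, -2), (6, -2), (8, 2), (9, 2), (11, -2), (13, 2), (14, 2), (15, 2), (16, -2), (17, 2), (18, 2), (19, -2), (20, -2), (21, -2), (22, 2), (23, -2)], [(5, 2), (6, 2), (8, -2), (9, 2), (11, -2), (13, 2), (14, 2), (15, 2), (16, 2), (17, -2), (18, -2), (19, -2), (20, -2), (21, 2), (22, -2), (23, -2)], [(5, 2), (6, 2), (8, 2), (9, 2), (11, 2), (13, 2), (14, 2), (15, 2), (16, 2), (17, 2), (18, 2), (19, 2), (20, 2), (21, 2), (22, 2), (23, 2)], [(5, -2), (6, -2), (8, -2), (9, -2), (11, 2), (13, 2), (14, -2), (15, 2), (16, 2), (17, 2), (18, -2), (19, -2), (20, -2), (21, 2),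 (22, 2), (23, 2)], [(5, 2), (6, -2), (8, -2), (9, 2), (11, -2), (13, 2), (14, -2), (15, -2), (16, 2), (17, -2), (18, 2), (19, 2), (20, -2), (21, -2), (22, 2), (23, 2)], [(0, -2), (1, -2), (2, 6), (3, -2), (4, -2), (7, -2), (10, -2), (12, -2)], [(5, -2), (6, -2), (8, -2), (9, 2), (11, 2), (13, 2), (14, 2), (15, 2), (16, -2), (17, -2), (18, -2), (19, 2), (20, 2), (21, -2), (22, -2), (23, 2)], [(0, 2), (1, 2), (2, 2), (3, 2), (4, -6), (7, 2), (10, 2), (12, 2)], [(5, 2), (6, -2), (8, -2), (9, -2), (11, 2), (13, -2), (14, 2), (15, 2), (16, 2), (17, -2), (18, 2), (19, -2), (20, 2), (21, -2), (22, 2), (23, -2)], [(5, -2), (6, -2), (8, 2), (9, -2), (11, -2), (13, 2), (14, -2), (15, 2), (16, 2), (17, -2), (18, 2), (19, 2), (20, 2), (21, 2), (22, -2), (23, -2)], [(5, -2), (6, 2), (8, 2), (9, 2), (11, 2), (13, -2), (14, -2), (15, 2), (16, 2), (17, -2), (18, -2), (19, 2), (20, -2), (21, -2), (22, 2), (23, -2)],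 [(5, 2), (6, 2), (8, -2), (9, -2), (11, -2), (13, 2), (14, -2), (15, 2), (16, -2), (17, 2), (18, -2), (19, 2), (20, 2), (21, -2), (22, 2), (23, -2)], [(0, -2), (1, -2), (2, -2), (3, -2), (4, -2), (7, -2), (10, 6), (12, -2)], [(0, 2), (1, 2), (2, 2), (3, 2), (4, 2), (7, -6), (10, 2), (12, 2)], [(5, -2), (6, 2), (8, -2), (9, 2), (11, 2), (13, 2), (14, -2), (15, -2), (16, -2), (17, -2), (18, 2), (19, -2), (20, 2), (21, 2), (22, 2), (23, -2)], [(0, 2), (1, 2), (2, 2), (3, 2), (4, 2), (7, 2), (10, 2), (12, -6)], [(5, -2), (6, 2), (8, 2), (9, -2), (11, -2), (13, 2), (14, 2), (15, -2), (16, 2), (17, -2), (18, -2), (19, -2), (20, 2), (21, -2), (22, 2), (23, 2)], [(5, 2), (6, -2), (8, 2), (9, 2), (11, -2), (13, -2), (14, -2), (15, 2), (16, -2), (17, -2), (18, -2), (19, -2), (20, 2), (21, 2), (22, 2), (23, 2)], [(5, 2), (6, -2), (8, 2), (9, -2), (11, 2), (13, 2), (14, 2), (15, -2), (16, -2), (17, -2), (18,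 -2), (19, 2), (20, -2), (21, 2), (22, 2), (23, -2)], [(0, -2), (1, 6), (2, -2), (3, -2), (4, -2), (7, -2), (10, -2), (12, -2)], [(5, -2), (6, 2), (8, -2), (9, -2), (11, -2), (13, -2), (14, 2), (15, 2), (16, -2), (17, -2), (18, 2), (19, 2), (20, -2), (21, 2), (22, 2), (23, 2)], [(0, -2), (1, -2), (2, -2), (3, 6), (4, -2), (7, -2), (10, -2), (12, -2)], [(5, 2), (6, 2), (8, 2), (9, -2), (11, 2), (13, 2), (14, -2), (15, 2), (16, -2), (17, -2), (18, 2), (19, -2), (20, -2), (21, -2), (22, -2), (23, 2)], [(0, -6), (1, 2), (2, 2), (3, 2), (4, 2), (7, 2), (10, 2), (12, 2)]]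
/-- Its transpose. -/
def matO6T : List (List (ℕ × ℤ)) := [[(5, -2), (7, 2), (12, -2), (13, 2), (15, 2), (19, -2), (21, -2), (23, -6)], [(5, -2), (7, 2), (12, -2), (13, 2), (15, 2), (19, 6), (21, -2), (23, 2)], [(5, 6), (7, 2), (12, -2), (13, 2), (15, 2), (19, -2), (21, -2), (23, 2)], [(5, -2), (7, 2), (12, -2), (13, 2), (15, 2), (19, -2), (21, 6), (23, 2)], [(5, -2), (7, -6), (12, -2), (13, 2), (15, 2), (19, -2), (21, -2), (23, 2)], [(0, -2), (1, 2), (2, 2), (3, -2), (4, 2), (6, -2), (8, 2), (9, -2), (10, -2), (11, 2), (14, -2), (16, -2), (17, 2), (18, 2), (20, -2), (22, 2)], [(0, -2), (1, 2), (2, 2), (3, -2), (4, -2), (6, -2), (8, -2), (9, -2), (10, 2), (11, 2), (14, 2), (16, 2), (17, -2), (18, -2), (20, 2), (22, 2)], [(5, -2), (7, 2), (12, -2), (13, -6), (15, 2), (19, -2), (21, -2), (23, 2)], [(0, 2), (1, -2), (2, 2), (3, -2), (4, -2), (6, -2), (8, -2), (9, 2), (10, 2), (11, -2), (14, -2), (16,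 2), (17, 2), (18, 2), (20, -2), (22, 2)], [(0, 2), (1, 2), (2, 2), (3, -2), (4, 2), (6, 2), (8, -2), (9, -2), (10, 2), (11, -2), (14, 2), (16, -2), (17, 2), (18, -2), (20, -2), (22, -2)], [(5, -2), (7, 2), (12, 6), (13, 2), (15, 2), (19, -2), (21, -2), (23, 2)], [(0, -2), (1, -2), (2, 2), (3, 2), (4, -2), (6, 2), (8, 2), (9, -2), (10, 2), (11, -2), (14, 2), (16, -2), (17, -2), (18, 2), (20, -2), (22, 2)], [(5, -2), (7, 2), (12, -2), (13, 2), (15, -6), (19, -2), (21, -2), (23, 2)], [(0, 2), (1, 2), (2, 2), (3, 2), (4, 2), (6, 2), (8, -2), (9, 2), (10, -2), (11, 2), (14, 2), (16, 2), (17, -2), (18, 2), (20, -2), (22, 2)], [(0, 2), (1, 2), (2, 2), (3, -2), (4, -2), (6, 2), (8, 2), (9, -2), (10, -2), (11, -2), (14, -2), (16, 2), (17, -2), (18, 2), (20, 2), (22, -2)], [(0, 2), (1, 2), (2, 2), (3, 2), (4, -2), (6, 2), (8, 2), (9, 2), (10, 2), (11, 2), (14, -2), (16, -2), (17, 2), (18, -2), (20, 2), (22,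 2)], [(0, -2), (1, 2), (2, 2), (3, 2), (4, 2), (6, -2), (8, 2), (9, 2), (10, 2), (11, -2), (14, -2), (16, 2), (17, -2), (18, -2), (20, -2), (22, -2)], [(0, 2), (1, -2), (2, 2), (3, 2), (4, -2), (6, -2), (8, -2), (9, -2), (10, -2), (11, 2), (14, -2), (16, -2), (17, -2), (18, -2), (20, -2), (22, -2)], [(0, 2), (1, -2), (2, 2), (3, -2), (4, 2), (6, -2), (8, 2), (9, 2), (10, -2), (11, -2), (14, 2), (16, -2), (17, -2), (18, -2), (20, 2), (22, 2)], [(0, -2), (1, -2), (2, 2), (3, -2), (4, 2), (6, 2), (8, -2), (9, 2), (10, 2), (11, 2), (14, -2), (16, -2), (17, -2), (18, 2), (20, 2), (22, -2)], [(0, -2), (1, -2), (2, 2), (3, -2), (4, -2), (6, 2), (8, 2), (9, 2), (10, -2), (11, 2), (14, 2), (16, 2), (17, 2), (18, -2), (20, -2), (22, -2)], [(0, -2), (1, 2), (2, 2), (3, 2), (4, -2), (6, -2), (8, -2), (9, 2), (10, -2), (11, -2), (14, 2), (16, -2), (17, 2), (18, 2), (20, 2), (22, -2)], [(0, 2), (1, -2), (2, 2),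 (3, 2), (4, 2), (6, -2), (8, 2), (9, -2), (10, 2), (11, 2), (14, 2), (16, 2), (17, 2), (18, 2), (20, 2), (22, -2)], [(0, -2), (1, -2), (2, 2), (3, 2), (4, 2), (6, 2), (8, -2), (9, -2), (10, -2), (11, -2), (14, -2), (16, 2), (17, 2), (18, -2), (20, 2), (22, 2)]]
theorem matO6_chk : chkElt matO6 matO6T = true := by decide +kernel
theorem linkO6_v : allBelow (fun j => decide (dotS (rowOf matO6 j) (vP PO6) = 8 * vP PE8 j)) 24 = true := by decide +kernel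
theorem linkO6 : Orb rO6 rE8 := orb_of_mat matO6_chk rfl rfl linkO6_v

/-- The matrix of the link from D4. -/
def matD4 : List (List (ℕ × ℤ)) := [[(5, -2), (7, 2), (8, 4), (10, -2), (11, -2), (14, 2), (15, -2), (17, 2), (19, -2), (20, 2), (21, -2), (22, 2), (23, -2)], [(3, -4), (5, 2), (7, -2), (10, -2), (11, 2), (14, 2), (15, 2), (17, 2), (19, 2), (20, -2), (21, -2), (22, 2), (23, -2)], [(0, -2), (1, -2), (2, 2), (3, 2), (4, -2), (6, 2), (7, -4), (8, 2), (9, -2), (12, -2), (13, -2), (16, -2), (18, 2)], [(5, -2), (6, 4), (7, 2), (10, -2), (11, 2), (14, -2), (15, 2), (17, -2), (19, -2), (20, -2), (21, 2), (22, 2), (23, -2)], [(5, 2), (7, 2), (10, -2), (11, 2), (13, -4), (14, -2), (15, -2), (17, 2), (19, 2), (20, 2), (21, 2), (22, -2), (23, -2)], [(2, 4), (5, -2), (7, 2), (10, 2), (11, -2), (14, -2), (15, 2), (17, 2), (19, 2), (20, -2), (21, -2), (22, -2), (23, -2)], [(0, 2), (1, -2), (2, -2), (3,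 2), (4, 2), (6, -2), (8, 2), (9, 2), (12, -2), (13, -2), (15, 4), (16, 2), (18, 2)], [(0, -2), (1, -2), (2, -2), (3, -2), (4, -2), (6, 2), (8, -2), (9, 2), (11, -4), (12, 2), (13, -2), (16, 2), (18, 2)], [(1, 4), (5, -2), (7, -2), (10, -2), (11, -2), (14, 2), (15, 2), (17, -2), (19, 2), (20, 2), (21, 2), (22, -2), (23, -2)], [(0, -2), (1, 2), (2, -2), (3, 2), (4, 2), (6, 2), (8, -2), (9, -2), (12, -2), (13, -2), (16, 2), (18, -2), (21, -4)], [(0, 2), (1, 2), (2, 2), (3, 2), (4, -2), (6, -2), (8, -2), (9, -2), (12, 2), (13, -2), (16, 2), (18, 2), (22, 4)], [(5, -2), (7, -2), (10, 2), (11, 2), (14, 2), (15, -2), (16, 4), (17, 2), (19, -2), (20, -2), (21, 2), (22, -2), (23, -2)], [(0, 2), (1, 2), (2, -2), (3, 2), (4, -2), (6, 2), (8, -2), (9, 2), (12, -2), (13, 2), (16, -2), (17, 4), (18, 2)], [(0, -2), (1, 2), (2, -2), (3, -2), (4, -2), (6, -2), (8, 2), (9, -2), (12, -2), (13, 2), (14, -4), (16, 2),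 (18, 2)], [(5, 2), (7, -2), (10, 2), (11, -2), (14, -2), (15, 2), (17, 2), (18, -4), (19, -2), (20, 2), (21, 2), (22, 2), (23, -2)], [(4, -4), (5, 2), (7, 2), (10, 2), (11, 2), (14, 2), (15, 2), (17, -2), (19, -2), (20, 2), (21, -2), (22, -2), (23, -2)], [(5, 2), (7, 2), (9, -4), (10, -2), (11, -2), (14, 2), (15, 2), (17, 2), (19, -2), (20, -2), (21, 2), (22, -2), (23, 2)], [(0, -4), (5, -2), (7, 2), (10, 2), (11, 2), (14, 2), (15, 2), (17, 2), (19, 2), (20, 2), (21, 2), (22, 2), (23, 2)], [(0, 2), (1, 2), (2, -2), (3, -2), (4, 2), (6, 2), (8, 2), (9, -2), (10, 4), (12, 2), (13, -2), (16, -2), (18, 2)], [(0, 2), (1, -2), (2, -2), (3, 2), (4, -2), (6, 2), (8, 2), (9, -2), (12, 2), (13, 2), (16, 2), (18, -2), (19, 4)], [(5, -2), (7, -2), (10, -2), (11, 2), (12, 4), (14, -2), (15, 2), (17, 2), (19, -2), (20, 2), (21, -2), (22, -2), (23, 2)], [(0, -2), (1, 2), (2, -2), (3, 2), (4, -2), (6, -2), (8,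 2), (9, 2), (12, 2), (13, -2), (16, -2), (18, -2), (20, -4)], [(0, -2), (1, -2), (2, -2), (3, 2), (4, 2), (6, -2), (8, -2), (9, -2), (12, 2), (13, 2), (16, -2), (18, 2), (23, -4)], [(0, -2), (1, 2), (2, 2), (3, 2), (4, 2), (5, 4), (6, 2), (8, 2), (9, 2), (12, 2), (13, 2), (16, 2), (18, 2)]]
/-- Its transpose. -/
def matD4T : List (List (ℕ × ℤ)) := [[(2, -2), (6, 2), (7, -2), (9, -2), (10, 2), (12, 2), (13, -2), (17, -4), (18, 2), (19, 2), (21, -2), (22, -2), (23, -2)], [(2, -2), (6, -2), (7, -2), (8, 4), (9, 2), (10, 2), (12, 2), (13, 2), (18, 2), (19, -2), (21, 2), (22, -2), (23, 2)], [(2, 2), (5, 4), (6, -2), (7, -2), (9, -2), (10, 2), (12, -2), (13, -2), (18, -2), (19, -2), (21, -2), (22, -2), (23, 2)], [(1, -4), (2, 2), (6, 2), (7, -2), (9, 2), (10, 2), (12, 2), (13, -2), (18, -2), (19, 2), (21, 2), (22, 2), (23, 2)], [(2, -2), (6, 2), (7, -2), (9, 2), (10, -2), (12, -2), (13, -2), (15, -4),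 (18, 2), (19, -2), (21, -2), (22, 2), (23, 2)], [(0, -2), (1, 2), (3, -2), (4, 2), (5, -2), (8, -2), (11, -2), (14, 2), (15, 2), (16, 2), (17, -2), (20, -2), (23, 4)], [(2, 2), (3, 4), (6, -2), (7, 2), (9, 2), (10, -2), (12, 2), (13, -2), (18, 2), (19, 2), (21, -2), (22, -2), (23, 2)], [(0, 2), (1, -2), (2, -4), (3, 2), (4, 2), (5, 2), (8, -2), (11, -2), (14, -2), (15, 2), (16, 2), (17, 2), (20, -2)], [(0, 4), (2, 2), (6, 2), (7, -2), (9, -2), (10, -2), (12, -2), (13, 2), (18, 2), (19, 2), (21, 2), (22, -2), (23, 2)], [(2, -2), (6, 2), (7, 2), (9, -2), (10, -2), (12, 2), (13, -2), (16, -4), (18, -2), (19, -2), (21, 2), (22, -2), (23, 2)], [(0, -2), (1, -2), (3, -2), (4, -2), (5, 2), (8, -2), (11, 2), (14, 2), (15, 2), (16, -2), (17, 2), (18, 4), (20, -2)], [(0, -2), (1, 2), (3, 2), (4, 2), (5, -2), (7, -4), (8, -2), (11, 2), (14, -2), (15, 2), (16, -2), (17, 2), (20, 2)], [(2, -2), (6, -2), (7,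 2), (9, -2), (10, 2), (12, -2), (13, -2), (18, 2), (19, 2), (20, 4), (21, 2), (22, 2), (23, 2)], [(2, -2), (4, -4), (6, -2), (7, -2), (9, -2), (10, -2), (12, 2), (13, 2), (18, -2), (19, 2), (21, -2), (22, 2), (23, 2)], [(0, 2), (1, 2), (3, -2), (4, -2), (5, -2), (8, 2), (11, 2), (13, -4), (14, -2), (15, 2), (16, 2), (17, 2), (20, -2)], [(0, -2), (1, 2), (3, 2), (4, -2), (5, 2), (6, 4), (8, 2), (11, -2), (14, 2), (15, 2), (16, 2), (17, 2), (20, 2)], [(2, -2), (6, 2), (7, 2), (9, 2), (10, 2), (11, 4), (12, -2), (13, 2), (18, -2), (19, 2), (21, -2), (22, -2), (23, 2)], [(0, 2), (1, 2), (3, -2), (4, 2), (5, 2), (8, -2), (11, 2), (12, 4), (14, 2), (15, -2), (16, 2), (17, 2), (20, 2)], [(2, 2), (6, 2), (7, 2), (9, -2), (10, 2), (12, 2), (13, 2), (14, -4), (18, 2), (19, -2), (21, -2), (22, 2), (23, 2)], [(0, -2), (1, 2), (3, -2), (4, 2), (5, 2), (8, 2), (11, -2), (14, -2), (15, -2), (16, -2), (17, 2),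 (19, 4), (20, -2)], [(0, 2), (1, -2), (3, -2), (4, 2), (5, -2), (8, 2), (11, -2), (14, 2), (15, 2), (16, -2), (17, 2), (20, 2), (21, -4)], [(0, -2), (1, -2), (3, 2), (4, 2), (5, -2), (8, 2), (9, -4), (11, 2), (14, 2), (15, -2), (16, 2), (17, 2), (20, -2)], [(0, 2), (1, 2), (3, 2), (4, -2), (5, -2), (8, -2), (10, 4), (11, -2), (14, 2), (15, -2), (16, -2), (17, 2), (20, -2)], [(0, -2), (1, -2), (3, -2), (4, -2), (5, -2), (8, -2), (11, -2), (14, -2), (15, -2), (16, 2), (17, 2), (20, 2), (22, -4)]]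
theorem matD4_chk : chkElt matD4 matD4T = true := by decide +kernel
theorem linkD4_v : allBelow (fun j => decide (dotS (rowOf matD4 j) (vP PD4) = 8 * vP PE8 j)) 24 = true := by decide +kernel
theorem linkD4 : Orb rD4 rE8 := orb_of_mat matD4_chk rfl rfl linkD4_v

/-- The matrix of the link from P35. -/
def matP35 : List (List (ℕ × ℤ)) := [[(0, 1), (1, -3), (2, 1), (3, 1), (4, 1), (5, 1), (6, -3), (7, 1), (8, 1), (9, 1), (10, 1), (11, 1), (12, -3), (13, 1), (14, 1), (15, 1), (16, -3), (17, 1), (18, 1), (19, 1), (20, -3), (21, 1), (22, 1), (23, 1)], [(0, -1), (1, -1), (2, -1), (3, 3), (4, -1), (5, -1), (6, -1), (7, -1), (8, -1), (9, 3), (10, 3), (11, -1), (12, -1), (13, -1), (14, -1), (15, 3), (16, -1), (17, -1), (18, -1), (19, -1), (20, 3), (21, -1), (22, -1), (23, -1)], [(0, 1), (1, 1), (2, -3), (3, 1), (4, 1), (5, 1), (6, 1), (7, 1), (8, 1), (9, 1), (10, 1), (11, 1), (12, -3), (13, 1), (14, 1),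 (15, -3), (16, 1), (17, 1), (18, 1), (19, 1), (20, 1), (21, -3), (22, -3), (23, 1)], [(0, 1), (1, 1), (2, -3), (3, 1), (4, 1), (5, 1), (6, -3), (7, 1), (8, -3), (9, 1), (10, -3), (11, 1), (12, 1), (13, -3), (14, 1), (15, 1), (16, 1), (17, 1), (18, 1), (19, 1), (20, 1), (21, 1), (22, 1), (23, 1)], [(0, -3), (1, 1), (2, 1), (3, 1), (4, 1), (5, 1), (6, 1), (7, 1), (8, 1), (9, -3), (10, 1), (11, 1), (12, -3), (13, -3), (14, 1), (15, 1), (16, 1), (17, 1), (18, 1), (19, -3), (20, 1), (21, 1), (22, 1), (23, 1)], [(0, 1), (1, 1), (2, 1), (3, 1), (4, 1), (5, 1), (6, 1), (7, 1), (8, 1), (9, 1), (10, 1), (11, 1), (12, 1), (13, -3), (14, 1), (15, 1), (16, 1), (17, 1), (18, -3), (19, 1), (20, -3), (21, -3), (22, 1), (23, -3)], [(0, 1), (1, 1), (2, 1), (3, 1), (4, 1), (5, 1), (6, -3), (7, 1), (8, 1), (9, -3), (10, 1), (11, -3), (12, 1), (13, 1), (14, 1), (15, 1), (16, 1), (17, 1), (18, 1), (19, 1), (20, 1), (21,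 1), (22, -3), (23, -3)], [(0, 3), (1, -1), (2, -1), (3, -1), (4, -1), (5, -1), (6, -1), (7, -1), (8, -1), (9, -1), (10, 3), (11, 3), (12, -1), (13, -1), (14, -1), (15, -1), (16, 3), (17, -1), (18, -1), (19, -1), (20, -1), (21, 3), (22, -1), (23, -1)], [(0, 3), (1, -1), (2, -1), (3, -1), (4, 3), (5, -1), (6, 3), (7, -1), (8, -1), (9, -1), (10, -1), (11, -1), (12, -1), (13, -1), (14, -1), (15, 3), (16, -1), (17, -1), (18, 3), (19, -1), (20, -1), (21, -1), (22, -1), (23, -1)], [(0, -1), (1, 3), (2, -1), (3, -1), (4, -1), (5, -1), (6, -1), (7, 3), (8, -1), (9, -1), (10, -1), (11, 3), (12, -1), (13, 3), (14, -1), (15, 3), (16, -1), (17, -1), (18, -1), (19, -1), (20, -1), (21, -1), (22, -1), (23, -1)], [(0, 1), (1, 1), (2, 1), (3, -3), (4, 1), (5, 1), (6, 1), (7, 1), (8, -3), (9, 1), (10, 1), (11, -3), (12, -3), (13, 1), (14, 1), (15, 1), (16, 1), (17, 1), (18, -3), (19, 1), (20, 1), (21, 1), (22, 1),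 (23, 1)], [(0, 1), (1, 1), (2, 1), (3, 1), (4, 1), (5, 1), (6, 1), (7, 1), (8, -3), (9, 1), (10, 1), (11, 1), (12, 1), (13, 1), (14, 1), (15, -3), (16, -3), (17, 1), (18, 1), (19, -3), (20, 1), (21, 1), (22, 1), (23, -3)], [(0, 1), (1, -3), (2, 1), (3, 1), (4, 1), (5, 1), (6, 1), (7, 1), (8, 1), (9, 1), (10, -3), (11, 1), (12, 1), (13, 1), (14, 1), (15, 1), (16, 1), (17, 1), (18, -3), (19, -3), (20, 1), (21, 1), (22, -3), (23, 1)], [(0, 1), (1, 1), (2, 1), (3, -3), (4, -3), (5, 1), (6, 1), (7, 1), (8, 1), (9, 1), (10, 1), (11, 1), (12, 1), (13, -3), (14, 1), (15, 1), (16, -3), (17, 1), (18, 1), (19, 1), (20, 1), (21, 1), (22, -3), (23, 1)], [(0, 3), (1, -1), (2, -1), (3, -1), (4, -1), (5, -1), (6, -1), (7, 3), (8, 3), (9, -1), (10, -1), (11, -1), (12, -1), (13, -1), (14, -1), (15, -1), (16, -1), (17, -1), (18, -1), (19, -1), (20, 3), (21, -1), (22, 3), (23, -1)], [(0, -1), (1, -1), (2, 3), (3, -1),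 (4, 3), (5, -1), (6, -1), (7, -1), (8, -1), (9, -1), (10, -1), (11, 3), (12, -1), (13, -1), (14, -1), (15, -1), (16, -1), (17, -1), (18, -1), (19, 3), (20, 3), (21, -1), (22, -1), (23, -1)], [(0, -1), (1, -1), (2, -1), (3, -1), (4, 3), (5, -1), (6, -1), (7, 3), (8, -1), (9, -1), (10, 3), (11, -1), (12, 3), (13, -1), (14, -1), (15, -1), (16, -1), (17, -1), (18, -1), (19, -1), (20, -1), (21, -1), (22, -1), (23, 3)], [(0, 1), (1, 1), (2, -3), (3, 1), (4, 1), (5, 1), (6, 1), (7, -3), (8, 1), (9, -3), (10, 1), (11, 1), (12, 1), (13, 1), (14, 1), (15, 1), (16, -3), (17, 1), (18, -3), (19, 1), (20, 1), (21, 1), (22, 1), (23, 1)], [(0, 1), (1, -3), (2, 1), (3, 1), (4, -3), (5, 1), (6, 1), (7, 1), (8, -3), (9, -3), (10, 1), (11, 1), (12, 1), (13, 1), (14, 1), (15, 1), (16, 1), (17, 1), (18, 1), (19, 1), (20, 1), (21, -3), (22, 1), (23, 1)], [(0, 1), (1, 1), (2, 1), (3, 1), (4, 1), (5, -3), (6, 1), (7, 1),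 (8, 1), (9, 1), (10, 1), (11, 1), (12, 1), (13, 1), (14, -3), (15, 1), (16, 1), (17, 5), (18, 1), (19, 1), (20, 1), (21, 1), (22, 1), (23, 1)], [(0, -1), (1, -1), (2, -1), (3, -1), (4, -1), (5, 3), (6, -1), (7, -1), (8, -1), (9, -1), (10, -1), (11, -1), (12, -1), (13, -1), (14, -5), (15, -1), (16, -1), (17, 3), (18, -1), (19, -1), (20, -1), (21, -1), (22, -1), (23, -1)], [(0, 1), (1, 1), (2, 1), (3, 1), (4, 1), (5, 5), (6, 1), (7, 1), (8, 1), (9, 1), (10, 1), (11, 1), (12, 1), (13, 1), (14, -3), (15, 1), (16, 1), (17, -3), (18, 1), (19, 1), (20, 1), (21, 1), (22, 1), (23, 1)], [(0, 1), (1, 1), (2, 1), (3, -3), (4, 1), (5, 1), (6, -3), (7, -3), (8, 1), (9, 1), (10, 1), (11, 1), (12, 1), (13, 1), (14, 1), (15, 1), (16, 1), (17, 1), (18, 1), (19, -3), (20, 1), (21, -3), (22, 1), (23, 1)], [(0, -3), (1, -3), (2, -3), (3, -3), (4, 1), (5, 1), (6, 1), (7, 1), (8, 1), (9, 1), (10, 1), (11, 1), (12, 1),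 (13, 1), (14, 1), (15, 1), (16, 1), (17, 1), (18, 1), (19, 1), (20, 1), (21, 1), (22, 1), (23, -3)]]
/-- Its transpose. -/
def matP35T : List (List (ℕ × ℤ)) := [[(0, 1), (1, -1), (2, 1), (3, 1), (4, -3), (5, 1), (6, 1), (7, 3), (8, 3), (9, -1), (10, 1), (11, 1), (12, 1), (13, 1), (14, 3), (15, -1), (16, -1), (17, 1), (18, 1), (19, 1), (20, -1), (21, 1), (22, 1), (23, -3)], [(0, -3), (1, -1), (2, 1), (3, 1), (4, 1), (5, 1), (6, 1), (7, -1), (8, -1), (9, 3), (10, 1), (11, 1), (12, -3), (13, 1), (14, -1), (15, -1), (16, -1), (17, 1), (18, -3), (19, 1), (20, -1), (21, 1), (22, 1), (23, -3)], [(0, 1), (1, -1), (2, -3), (3, -3), (4, 1), (5, 1), (6, 1), (7, -1), (8, -1), (9, -1), (10, 1), (11, 1), (12, 1), (13, 1), (14, -1), (15, 3), (16, -1), (17, -3), (18, 1), (19, 1), (20, -1), (21, 1), (22, 1), (23, -3)], [(0, 1), (1, 3), (2, 1), (3, 1), (4, 1), (5, 1), (6, 1), (7, -1), (8, -1), (9, -1), (10, -3),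 (11, 1), (12, 1), (13, -3), (14, -1), (15, -1), (16, -1), (17, 1), (18, 1), (19, 1), (20, -1), (21, 1), (22, -3), (23, -3)], [(0, 1), (1, -1), (2, 1), (3, 1), (4, 1), (5, 1), (6, 1), (7, -1), (8, 3), (9, -1), (10, 1), (11, 1), (12, 1), (13, -3), (14, -1), (15, 3), (16, 3), (17, 1), (18, -3), (19, 1), (20, -1), (21, 1), (22, 1), (23, 1)], [(0, 1), (1, -1), (2, 1), (3, 1), (4, 1), (5, 1), (6, 1), (7, -1), (8, -1), (9, -1), (10, 1), (11, 1), (12, 1), (13, 1), (14, -1), (15, -1), (16, -1), (17, 1), (18, 1), (19, -3), (20, 3), (21, 5), (22, 1), (23, 1)], [(0, -3), (1, -1), (2, 1), (3, -3), (4, 1), (5, 1), (6, -3), (7, -1), (8, 3), (9, -1), (10, 1), (11, 1), (12, 1), (13, 1), (14, -1), (15, -1), (16, -1), (17, 1), (18, 1), (19, 1), (20, -1), (21, 1), (22, -3), (23, 1)], [(0, 1), (1, -1), (2, 1), (3, 1), (4, 1), (5, 1), (6, 1), (7, -1), (8, -1), (9, 3), (10, 1), (11, 1), (12, 1), (13, 1), (14, 3), (15,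 -1), (16, 3), (17, -3), (18, 1), (19, 1), (20, -1), (21, 1), (22, -3), (23, 1)], [(0, 1), (1, -1), (2, 1), (3, -3), (4, 1), (5, 1), (6, 1), (7, -1), (8, -1), (9, -1), (10, -3), (11, -3), (12, 1), (13, 1), (14, 3), (15, -1), (16, -1), (17, 1), (18, -3), (19, 1), (20, -1), (21, 1), (22, 1), (23, 1)], [(0, 1), (1, 3), (2, 1), (3, 1), (4, -3), (5, 1), (6, -3), (7, -1), (8, -1), (9, -1), (10, 1), (11, 1), (12, 1), (13, 1), (14, -1), (15, -1), (16, -1), (17, -3), (18, -3), (19, 1), (20, -1), (21, 1), (22, 1), (23, 1)], [(0, 1), (1, 3), (2, 1), (3, -3), (4, 1), (5, 1), (6, 1), (7, 3), (8, -1), (9, -1), (10, 1), (11, 1), (12, -3), (13, 1), (14, -1), (15, -1), (16, 3), (17, 1), (18, 1), (19, 1), (20, -1), (21, 1), (22, 1), (23, 1)], [(0, 1), (1, -1), (2, 1), (3, 1), (4, 1), (5, 1), (6, -3), (7, 3), (8, -1), (9, 3), (10, -3), (11, 1), (12, 1), (13, 1), (14, -1), (15, 3), (16, -1), (17, 1), (18, 1), (19, 1),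 (20, -1), (21, 1), (22, 1), (23, 1)], [(0, -3), (1, -1), (2, -3), (3, 1), (4, -3), (5, 1), (6, 1), (7, -1), (8, -1), (9, -1), (10, -3), (11, 1), (12, 1), (13, 1), (14, -1), (15, -1), (16, 3), (17, 1), (18, 1), (19, 1), (20, -1), (21, 1), (22, 1), (23, 1)], [(0, 1), (1, -1), (2, 1), (3, -3), (4, -3), (5, -3), (6, 1), (7, -1), (8, -1), (9, 3), (10, 1), (11, 1), (12, 1), (13, -3), (14, -1), (15, -1), (16, -1), (17, 1), (18, 1), (19, 1), (20, -1), (21, 1), (22, 1), (23, 1)], [(0, 1), (1, -1), (2, 1), (3, 1), (4, 1), (5, 1), (6, 1), (7, -1), (8, -1), (9, -1), (10, 1), (11, 1), (12, 1), (13, 1), (14, -1), (15, -1), (16, -1), (17, 1), (18, 1), (19, -3), (20, -5), (21, -3), (22, 1), (23, 1)], [(0, 1), (1, 3), (2, -3), (3, 1), (4, 1), (5, 1), (6, 1), (7, -1), (8, 3), (9, 3), (10, 1), (11, -3), (12, 1), (13, 1), (14, -1), (15, -1), (16, -1), (17, 1), (18, 1), (19, 1), (20, -1), (21, 1), (22, 1), (23, 1)],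 [(0, -3), (1, -1), (2, 1), (3, 1), (4, 1), (5, 1), (6, 1), (7, 3), (8, -1), (9, -1), (10, 1), (11, -3), (12, 1), (13, -3), (14, -1), (15, -1), (16, -1), (17, -3), (18, 1), (19, 1), (20, -1), (21, 1), (22, 1), (23, 1)], [(0, 1), (1, -1), (2, 1), (3, 1), (4, 1), (5, 1), (6, 1), (7, -1), (8, -1), (9, -1), (10, 1), (11, 1), (12, 1), (13, 1), (14, -1), (15, -1), (16, -1), (17, 1), (18, 1), (19, 5), (20, 3), (21, -3), (22, 1), (23, 1)], [(0, 1), (1, -1), (2, 1), (3, 1), (4, 1), (5, -3), (6, 1), (7, -1), (8, 3), (9, -1), (10, -3), (11, 1), (12, -3), (13, 1), (14, -1), (15, -1), (16, -1), (17, -3), (18, 1), (19, 1), (20, -1), (21, 1), (22, 1), (23, 1)], [(0, 1), (1, -1), (2, 1), (3, 1), (4, -3), (5, 1), (6, 1), (7, -1), (8, -1), (9, -1), (10, 1), (11, -3), (12, -3), (13, 1), (14, -1), (15, 3), (16, -1), (17, 1), (18, 1), (19, 1), (20, -1), (21, 1), (22, -3), (23, 1)], [(0, -3), (1, 3), (2, 1), (3, 1), (4,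 1), (5, -3), (6, 1), (7, -1), (8, -1), (9, -1), (10, 1), (11, 1), (12, 1), (13, 1), (14, 3), (15, 3), (16, -1), (17, 1), (18, 1), (19, 1), (20, -1), (21, 1), (22, 1), (23, 1)], [(0, 1), (1, -1), (2, -3), (3, 1), (4, 1), (5, -3), (6, 1), (7, 3), (8, -1), (9, -1), (10, 1), (11, 1), (12, 1), (13, 1), (14, -1), (15, -1), (16, -1), (17, 1), (18, -3), (19, 1), (20, -1), (21, 1), (22, -3), (23, 1)], [(0, 1), (1, -1), (2, -3), (3, 1), (4, 1), (5, 1), (6, -3), (7, -1), (8, -1), (9, -1), (10, 1), (11, 1), (12, -3), (13, -3), (14, 3), (15, -1), (16, -1), (17, 1), (18, 1), (19, 1), (20, -1), (21, 1), (22, 1), (23, 1)], [(0, 1), (1, -1), (2, 1), (3, 1), (4, 1), (5, -3), (6, -3), (7, -1), (8, -1), (9, -1), (10, 1), (11, -3), (12, 1), (13, 1), (14, -1), (15, -1), (16, 3), (17, 1), (18, 1), (19, 1), (20, -1), (21, 1), (22, 1), (23, -3)]]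
theorem matP35_chk : chkElt matP35 matP35T = true := by decide +kernel
theorem linkP35_v : allBelow (fun j => decide (dotS (rowOf matP35 j) (vP PP35) = 8 * vP PE8 j)) 24 = true := by decide +kernel
theorem linkP35 : Orb rP35 rE8 := orb_of_mat matP35_chk rfl rfl linkP35_v

/-- The matrix of the link from P53. -/
def matP53 : List (List (ℕ × ℤ)) := [[(0, 1), (1, 1), (2, 1), (3, 1), (4, 1), (5, -3), (6, 1), (7, 1), (8, 1), (9, -3), (10, 1), (11, -3), (12, 1), (13, -3), (14, 1), (15, 1), (16, 1), (17, 1), (18, 1), (19, 1), (20, 1), (21, -3), (22, 1), (23, 1)], [(0, -1), (1, -1), (2, -1), (3, -1), (4, 3), (5, -1), (6, -1), (7, -1), (8, -1), (9, -1), (10, 3), (11, -1), (12, -1), (13, -1), (14, 3), (15, -1), (16, -1), (17, -1), (18, 3), (19, -1), (20, -1), (21, 3), (22, -1), (23, -1)], [(0, -1), (1, -1), (2, -1), (3, 3), (4, -1), (5, -1), (6, -1), (7, -1), (8, -1), (9, -1), (10, -1), (11, -1), (12, 3),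 (13, -1), (14, -1), (15, 3), (16, -1), (17, -1), (18, -1), (19, -1), (20, -1), (21, 3), (22, 3), (23, -1)], [(0, -1), (1, -1), (2, -1), (3, -1), (4, -1), (5, -1), (6, -1), (7, -1), (8, -1), (9, -1), (10, -1), (11, -1), (12, -1), (13, 3), (14, -1), (15, 3), (16, -1), (17, 3), (18, 3), (19, 3), (20, -1), (21, -1), (22, -1), (23, -1)], [(0, 1), (1, 1), (2, -3), (3, 1), (4, -3), (5, 1), (6, 1), (7, 1), (8, 1), (9, 1), (10, 1), (11, 1), (12, 1), (13, -3), (14, 1), (15, 1), (16, -3), (17, 1), (18, 1), (19, 1), (20, 1), (21, 1), (22, -3), (23, 1)], [(0, 1), (1, 1), (2, 1), (3, -3), (4, 1), (5, 1), (6, 1), (7, -3), (8, 1), (9, -3), (10, 1), (11, 1), (12, 1), (13, 1), (14, 1), (15, 1), (16, -3), (17, 1), (18, -3), (19, 1), (20, 1), (21, 1), (22, 1), (23, 1)], [(0, -5), (1, 3), (2, -1), (3, -1), (4, -1), (5, -1), (6, -1), (7, -1), (8, -1), (9, -1), (10, -1), (11, -1), (12, -1), (13, -1), (14, -1), (15, -1),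 (16, -1), (17, -1), (18, -1), (19, -1), (20, -1), (21, -1), (22, -1), (23, 3)], [(0, 3), (1, -5), (2, -1), (3, -1), (4, -1), (5, -1), (6, -1), (7, -1), (8, -1), (9, -1), (10, -1), (11, -1), (12, -1), (13, -1), (14, -1), (15, -1), (16, -1), (17, -1), (18, -1), (19, -1), (20, -1), (21, -1), (22, -1), (23, 3)], [(0, -1), (1, -1), (2, -1), (3, -1), (4, -1), (5, -1), (6, -1), (7, 3), (8, -1), (9, -1), (10, 3), (11, 3), (12, -1), (13, -1), (14, -1), (15, -1), (16, -1), (17, 3), (18, -1), (19, -1), (20, -1), (21, -1), (22, 3), (23, -1)], [(0, -1), (1, -1), (2, -1), (3, -1), (4, -1), (5, -1), (6, 3), (7, -1), (8, -1), (9, -1), (10, -1), (11, 3), (12, -1), (13, -1), (14, 3), (15, 3), (16, 3), (17, -1), (18, -1), (19, -1), (20, -1), (21, -1), (22, -1), (23, -1)], [(0, 1), (1, 1), (2, 1), (3, 1), (4, -3), (5, -3), (6, 1), (7, -3), (8, -3), (9, 1), (10, 1), (11, 1), (12, 1), (13, 1), (14, 1), (15, -3), (16,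 1), (17, 1), (18, 1), (19, 1), (20, 1), (21, 1), (22, 1), (23, 1)], [(0, 1), (1, 1), (2, -3), (3, 1), (4, 1), (5, 1), (6, 1), (7, 1), (8, -3), (9, 1), (10, 1), (11, -3), (12, -3), (13, 1), (14, 1), (15, 1), (16, 1), (17, 1), (18, -3), (19, 1), (20, 1), (21, 1), (22, 1), (23, 1)], [(0, 1), (1, 1), (2, 1), (3, 1), (4, 1), (5, -3), (6, -3), (7, 1), (8, 1), (9, 1), (10, 1), (11, 1), (12, 1), (13, 1), (14, 1), (15, 1), (16, 1), (17, 1), (18, -3), (19, 1), (20, -3), (21, 1), (22, -3), (23, 1)], [(0, 1), (1, 1), (2, 1), (3, 1), (4, 1), (5, 1), (6, 1), (7, 1), (8, -3), (9, -3), (10, 1), (11, 1), (12, 1), (13, 1), (14, -3), (15, 1), (16, 1), (17, 1), (18, 1), (19, -3), (20, 1), (21, 1), (22, -3), (23, 1)], [(0, 1), (1, 1), (2, 1), (3, -3), (4, 1), (5, 1), (6, -3), (7, 1), (8, -3), (9, 1), (10, -3), (11, 1), (12, 1), (13, -3), (14, 1), (15, 1), (16, 1), (17, 1), (18, 1), (19, 1), (20, 1), (21, 1), (22, 1),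 (23, 1)], [(0, -1), (1, -1), (2, 3), (3, 3), (4, -1), (5, 3), (6, -1), (7, -1), (8, -1), (9, -1), (10, -1), (11, -1), (12, -1), (13, -1), (14, 3), (15, -1), (16, -1), (17, 3), (18, -1), (19, -1), (20, -1), (21, -1), (22, -1), (23, -1)], [(0, -1), (1, -1), (2, -1), (3, -1), (4, 3), (5, -1), (6, 3), (7, -1), (8, -1), (9, 3), (10, -1), (11, -1), (12, 3), (13, -1), (14, -1), (15, -1), (16, -1), (17, 3), (18, -1), (19, -1), (20, -1), (21, -1), (22, -1), (23, -1)], [(0, -1), (1, -1), (2, 3), (3, -1), (4, -1), (5, -1), (6, -1), (7, -1), (8, -1), (9, 3), (10, 3), (11, -1), (12, -1), (13, -1), (14, -1), (15, 3), (16, -1), (17, -1), (18, -1), (19, -1), (20, 3), (21, -1), (22, -1), (23, -1)], [(0, -1), (1, -1), (2, -1), (3, -1), (4, -1), (5, 3), (6, -1), (7, -1), (8, -1), (9, -1), (10, 3), (11, -1), (12, 3), (13, -1), (14, -1), (15, -1), (16, 3), (17, -1), (18, -1), (19, 3), (20, -1), (21, -1), (22, -1), (23,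 -1)], [(0, 1), (1, 1), (2, -3), (3, 1), (4, 1), (5, 1), (6, -3), (7, -3), (8, 1), (9, 1), (10, 1), (11, 1), (12, 1), (13, 1), (14, 1), (15, 1), (16, 1), (17, 1), (18, 1), (19, -3), (20, 1), (21, -3), (22, 1), (23, 1)], [(0, 1), (1, 1), (2, 1), (3, -3), (4, -3), (5, 1), (6, 1), (7, 1), (8, 1), (9, 1), (10, 1), (11, -3), (12, 1), (13, 1), (14, 1), (15, 1), (16, 1), (17, 1), (18, 1), (19, -3), (20, -3), (21, 1), (22, 1), (23, 1)], [(0, 1), (1, 1), (2, 1), (3, 1), (4, 1), (5, 1), (6, 1), (7, 1), (8, -3), (9, 1), (10, 1), (11, 1), (12, 1), (13, 1), (14, 1), (15, 1), (16, -3), (17, -3), (18, 1), (19, 1), (20, -3), (21, -3), (22, 1), (23, 1)], [(0, -1), (1, -1), (2, -1), (3, -1), (4, -1), (5, -1), (6, -1), (7, 3), (8, -1), (9, -1), (10, -1), (11, -1), (12, 3), (13, 3), (14, 3), (15, -1), (16, -1), (17, -1), (18, -1), (19, -1), (20, 3), (21, -1), (22, -1), (23, -1)], [(0, -3), (1, -3), (2, 1), (3, 1), (4,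 1), (5, 1), (6, 1), (7, 1), (8, 1), (9, 1), (10, 1), (11, 1), (12, 1), (13, 1), (14, 1), (15, 1), (16, 1), (17, 1), (18, 1), (19, 1), (20, 1), (21, 1), (22, 1), (23, 5)]]
/-- Its transpose. -/
def matP53T : List (List (ℕ × ℤ)) := [[(0, 1), (1, -1), (2, -1), (3, -1), (4, 1), (5, 1), (6, -5), (7, 3), (8, -1), (9, -1), (10, 1), (11, 1), (12, 1), (13, 1), (14, 1), (15, -1), (16, -1), (17, -1), (18, -1), (19, 1), (20, 1), (21, 1), (22, -1), (23, -3)], [(0, 1), (1, -1), (2, -1), (3, -1), (4, 1), (5, 1), (6, 3), (7, -5), (8, -1), (9, -1), (10, 1), (11, 1), (12, 1), (13, 1), (14, 1), (15, -1), (16, -1), (17, -1), (18, -1), (19, 1), (20, 1), (21, 1), (22, -1), (23, -3)], [(0, 1), (1, -1), (2, -1), (3, -1), (4, -3), (5, 1), (6, -1), (7, -1), (8, -1), (9, -1), (10, 1), (11, -3), (12, 1), (13, 1), (14, 1), (15, 3), (16, -1), (17, 3), (18, -1), (19, -3), (20, 1), (21, 1), (22, -1), (23, 1)], [(0, 1), (1, -1),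 (2, 3), (3, -1), (4, 1), (5, -3), (6, -1), (7, -1), (8, -1), (9, -1), (10, 1), (11, 1), (12, 1), (13, 1), (14, -3), (15, 3), (16, -1), (17, -1), (18, -1), (19, 1), (20, -3), (21, 1), (22, -1), (23, 1)], [(0, 1), (1, 3), (2, -1), (3, -1), (4, -3), (5, 1), (6, -1), (7, -1), (8, -1), (9, -1), (10, -3), (11, 1), (12, 1), (13, 1), (14, 1), (15, -1), (16, 3), (17, -1), (18, -1), (19, 1), (20, -3), (21, 1), (22, -1), (23, 1)], [(0, -3), (1, -1), (2, -1), (3, -1), (4, 1), (5, 1), (6, -1), (7, -1), (8, -1), (9, -1), (10, -3), (11, 1), (12, -3), (13, 1), (14, 1), (15, 3), (16, -1), (17, -1), (18, 3), (19, 1), (20, 1), (21, 1), (22, -1), (23, 1)], [(0, 1), (1, -1), (2, -1), (3, -1), (4, 1), (5, 1), (6, -1), (7, -1), (8, -1), (9, 3), (10, 1), (11, 1), (12, -3), (13, 1), (14, -3), (15, -1), (16, 3), (17, -1), (18, -1), (19, -3), (20, 1), (21, 1), (22, -1), (23, 1)], [(0, 1), (1, -1), (2, -1), (3, -1), (4, 1),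 (5, -3), (6, -1), (7, -1), (8, 3), (9, -1), (10, -3), (11, 1), (12, 1), (13, 1), (14, 1), (15, -1), (16, -1), (17, -1), (18, -1), (19, -3), (20, 1), (21, 1), (22, 3), (23, 1)], [(0, 1), (1, -1), (2, -1), (3, -1), (4, 1), (5, 1), (6, -1), (7, -1), (8, -1), (9, -1), (10, -3), (11, -3), (12, 1), (13, -3), (14, -3), (15, -1), (16, -1), (17, -1), (18, -1), (19, 1), (20, 1), (21, -3), (22, -1), (23, 1)], [(0, -3), (1, -1), (2, -1), (3, -1), (4, 1), (5, -3), (6, -1), (7, -1), (8, -1), (9, -1), (10, 1), (11, 1), (12, 1), (13, -3), (14, 1), (15, -1), (16, 3), (17, 3), (18, -1), (19, 1), (20, 1), (21, 1), (22, -1), (23, 1)], [(0, 1), (1, 3), (2, -1), (3, -1), (4, 1), (5, 1), (6, -1), (7, -1), (8, 3), (9, -1), (10, 1), (11, 1), (12, 1), (13, 1), (14, -3), (15, -1), (16, -1), (17, 3), (18, 3), (19, 1), (20, 1), (21, 1), (22, -1), (23, 1)], [(0, -3), (1, -1), (2, -1), (3, -1), (4, 1), (5, 1), (6, -1), (7, -1),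 (8, 3), (9, 3), (10, 1), (11, -3), (12, 1), (13, 1), (14, 1), (15, -1), (16, -1), (17, -1), (18, -1), (19, 1), (20, -3), (21, 1), (22, -1), (23, 1)], [(0, 1), (1, -1), (2, 3), (3, -1), (4, 1), (5, 1), (6, -1), (7, -1), (8, -1), (9, -1), (10, 1), (11, -3), (12, 1), (13, 1), (14, 1), (15, -1), (16, 3), (17, -1), (18, 3), (19, 1), (20, 1), (21, 1), (22, 3), (23, 1)], [(0, -3), (1, -1), (2, -1), (3, 3), (4, -3), (5, 1), (6, -1), (7, -1), (8, -1), (9, -1), (10, 1), (11, 1), (12, 1), (13, 1), (14, -3), (15, -1), (16, -1), (17, -1), (18, -1), (19, 1), (20, 1), (21, 1), (22, 3), (23, 1)], [(0, 1), (1, 3), (2, -1), (3, -1), (4, 1), (5, 1), (6, -1), (7, -1), (8, -1), (9, 3), (10, 1), (11, 1), (12, 1), (13, -3), (14, 1), (15, 3), (16, -1), (17, -1), (18, -1), (19, 1), (20, 1), (21, 1), (22, 3), (23, 1)], [(0, 1), (1, -1), (2, 3), (3, 3), (4, 1), (5, 1), (6, -1), (7, -1), (8, -1), (9, 3), (10, -3), (11, 1),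 (12, 1), (13, 1), (14, 1), (15, -1), (16, -1), (17, 3), (18, -1), (19, 1), (20, 1), (21, 1), (22, -1), (23, 1)], [(0, 1), (1, -1), (2, -1), (3, -1), (4, -3), (5, -3), (6, -1), (7, -1), (8, -1), (9, 3), (10, 1), (11, 1), (12, 1), (13, 1), (14, 1), (15, -1), (16, -1), (17, -1), (18, 3), (19, 1), (20, 1), (21, -3), (22, -1), (23, 1)], [(0, 1), (1, -1), (2, -1), (3, 3), (4, 1), (5, 1), (6, -1), (7, -1), (8, 3), (9, -1), (10, 1), (11, 1), (12, 1), (13, 1), (14, 1), (15, 3), (16, 3), (17, -1), (18, -1), (19, 1), (20, 1), (21, -3), (22, -1), (23, 1)], [(0, 1), (1, 3), (2, -1), (3, 3), (4, 1), (5, -3), (6, -1), (7, -1), (8, -1), (9, -1), (10, 1), (11, -3), (12, -3), (13, 1), (14, 1), (15, -1), (16, -1), (17, -1), (18, -1), (19, 1), (20, 1), (21, 1), (22, -1), (23, 1)], [(0, 1), (1, -1), (2, -1), (3, 3), (4, 1), (5, 1), (6, -1), (7, -1), (8, -1), (9, -1), (10, 1), (11, 1), (12, 1), (13, -3), (14, 1), (15,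 -1), (16, -1), (17, -1), (18, 3), (19, -3), (20, -3), (21, 1), (22, -1), (23, 1)], [(0, 1), (1, -1), (2, -1), (3, -1), (4, 1), (5, 1), (6, -1), (7, -1), (8, -1), (9, -1), (10, 1), (11, 1), (12, -3), (13, 1), (14, 1), (15, -1), (16, -1), (17, 3), (18, -1), (19, 1), (20, -3), (21, -3), (22, 3), (23, 1)], [(0, -3), (1, 3), (2, 3), (3, -1), (4, 1), (5, 1), (6, -1), (7, -1), (8, -1), (9, -1), (10, 1), (11, 1), (12, 1), (13, 1), (14, 1), (15, -1), (16, -1), (17, -1), (18, -1), (19, -3), (20, 1), (21, -3), (22, -1), (23, 1)], [(0, 1), (1, -1), (2, 3), (3, -1), (4, -3), (5, 1), (6, -1), (7, -1), (8, 3), (9, -1), (10, 1), (11, 1), (12, -3), (13, -3), (14, 1), (15, -1), (16, -1), (17, -1), (18, -1), (19, 1), (20, 1), (21, 1), (22, -1), (23, 1)], [(0, 1), (1, -1), (2, -1), (3, -1), (4, 1), (5, 1), (6, 3), (7, 3), (8, -1), (9, -1), (10, 1), (11, 1), (12, 1), (13, 1), (14, 1), (15, -1), (16, -1), (17, -1), (18,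 -1), (19, 1), (20, 1), (21, 1), (22, -1), (23, 5)]]
theorem matP53_chk : chkElt matP53 matP53T = true := by decide +kernel
theorem linkP53_v : allBelow (fun j => decide (dotS (rowOf matP53 j) (vP PP53) = 8 * vP PE8 j)) 24 = true := by decide +kernel
theorem linkP53 : Orb rP53 rE8 := orb_of_mat matP53_chk rfl rfl linkP53_v

end Cfsg.Agent.Lib.Conway
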