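import Cfsg.Agent.Lib.Conway.Shape

/-!
# Data for the normal forms (generated)
-/

set_option autoImplicit false

namespace Cfsg.Agent.Lib.Conway

open Cfsg Cfsg.Agent.Lib.Compute Cfsg.Agent.Lib.Golay Cfsg.Agent.Lib.M24
open Cfsg.Agent.Lib.KnownSimple.Leech

/-- The base octad. -/
abbrev O0m : ℕ := 5279
/-- The complement of the base octad. -/
abbrev Hm : ℕ := 16771936
/-- Elements fixing the base octad, moving its points to `0`. -/
def Tin : List ℕ := [984818244535754528103549039458486304, 234404497677985199464068220775898124, 925110624936356292506972903527547271, 351234752333695662643730777336974471, 652377695465947202457105565931930732, 560048695766051208834022934794277196, 843032738236352254266720681464237092, 477261902491994113402126560423618690]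
/-- Elements fixing the base octad, moving the points outside to `5`. -/
def Tout : List ℕ := [984818244535754528103549039458486304, 480944922318218625117578683665688676, 936690311008676743434654384236043328, 933707825169498633286123232945121345, 477261902491994113402126560423618690, 396753866798930461808043711718034656, 560048695766051208834022934794277196, 925110624936356292506972903527547271, 808349357132237662371170127305740394, 648396484709544596906453196859572364, 269380077125559732274404797010021447, 400604419212255939643078567741433959, 811668151801162706865409421068173388, 468831362379993290659493389178897511, 920676427715288430123681037664981312, 234404497677985199464068220775898124]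
/-- Elements fixing the base octad and `5`, moving the other points outside to `6`. -/
def Tout2 : List ℕ := [984818244535754528103549039458486304, 977029715993924926329850909415510051, 893546081522009117519542281319876615, 804086363269050156962199929502173411, 978288686423613275701079024085372130, 402753536006162231589990234700612618, 934103148586158541535396641849543716, 635112498530695499105039787082517889, 648682535550907414008871552769396963, 729975972643941980690608283522760801, 391188366110187607953280043682214215, 402979292986249857621189875996854375, 894637615196553581972332028870406464, 589954790687727365029119087611085185, 279826923248445392450317816447447171]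

/-- Digits of the representative A. -/
abbrev PA : ℕ := 509180079030512128733313188413841676
/-- The scan of signs for A. -/
def kbA : List ℕ := [1183, 0, 0, 0, 0, 0, 0, 0, 0, 0, 0, 0, 0, 0, 0, 0, 0, 0, 0, 0, 0, 0, 0, 2282]
/-- The checks on A. -/
theorem chkA : repChk PA 0 8388609 0 0 kbA = true := by decide +kernel
/-- The representative A. -/
noncomputable def rA : LL := repL PA (repChk_L chkA)

/-- Digits of the representative B. -/
abbrev PB : ℕ := 343026579557397646928432183627819338
/-- The scan of signs for B. -/
def kbB : List ℕ := [2657, 2882, 324, 2344, 2576, 0, 0, 992, 0, 0, 1056, 0, 0, 0, 0, 0, 0, 0, 0, 0, 0, 0, 0, 0]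
/-- The checks on B. -/
theorem chkB : repChk PB 5279 0 0 0 kbB = true := by decide +kernel
/-- The representative B. -/
noncomputable def rB : LL := repL PB (repChk_L chkB)

/-- Digits of the representative O4. -/
abbrev PO4 : ℕ := 343026579557397646928432183762037062
/-- The scan of signs for O4. -/
def kbO4 : List ℕ := [321, 2882, 324, 520, 2576, 2848, 0, 2240, 0, 0, 3840, 0, 0, 0, 0, 0, 0, 0, 0, 0, 0, 0, 0, 0]
/-- The checks on O4. -/
theorem chkO4 : repChk PO4 5279 32 0 0 kbO4 = true := by decide +kernel
/-- The representative O4. -/
noncomputable def rO4 : LL := repL PO4 (repChk_L chkO4)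

/-- Digits of the representative D. -/
abbrev PD : ℕ := 343026582035695650923218987995441482
/-- The scan of signs for D. -/
def kbD : List ℕ := [1025, 1058, 164, 3080, 2192, 0, 3296, 0, 1440, 2592, 0, 0, 128, 3200, 0, 0, 2080, 0, 0, 0, 0, 0, 0, 0]
/-- The checks on D. -/
theorem chkD : repChk PD 340831 0 0 0 kbD = true := by decide +kernel
/-- The representative D. -/
noncomputable def rD : LL := repL PD (repChk_L chkD)

/-- Digits of the representative E8. -/
abbrev PE8 : ℕ := 675333578503626612846289070948884744
/-- The scan of signs for E8. -/
def kbE8 : List ℕ := [0, 0, 0, 0, 0, 0, 0, 0, 0, 0, 0, 0, 0, 0, 0, 0, 0, 0, 0, 0, 0, 0, 0, 3189]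
/-- The checks on E8. -/
theorem chkE8 : repChk PE8 0 0 0 8388608 kbE8 = true := by decide +kernel
/-- The representative E8. -/
noncomputable def rE8 : LL := repL PE8 (repChk_L chkE8)

/-- Digits of the representative F4. -/
abbrev PF4 : ℕ := 343026579557397644620337305878933900
/-- The scan of signs for F4. -/
def kbF4 : List ℕ := [3489, 2882, 1668, 1272, 0, 0, 0, 0, 0, 0, 0, 0, 0, 0, 0, 0, 0, 0, 0, 0, 0, 0, 0, 0]
/-- The checks on F4. -/
theorem chkF4 : repChk PF4 0 15 0 0 kbF4 = true := by decide +kernel
/-- The representative F4. -/
noncomputable def rF4 : LL := repL PF4 (repChk_L chkF4)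

/-- Digits of the representative O6. -/
abbrev PO6 : ℕ := 343026579557397646928432183627819330
/-- The scan of signs for O6. -/
def kbO6 : List ℕ := [2657, 2882, 324, 2344, 2576, 0, 0, 992, 0, 0, 1056, 0, 0, 0, 0, 0, 0, 0, 0, 0, 0, 0, 0, 0]
/-- The checks on O6. -/
theorem chkO6 : repChk PO6 5279 0 1 0 kbO6 = true := by decide +kernel
/-- The representative O6. -/
noncomputable def rO6 : LL := repL PO6 (repChk_L chkO6)

/-- Digits of the representative O44. -/
abbrev PO44 : ℕ := 343026579557397646928432188057004362
/-- The scan of signs for O44. -/
def kbO44 : List ℕ := [2305, 770, 2308, 520, 2576, 2848, 2112, 128, 0, 0, 3840, 0, 0, 0, 0, 0, 0, 0, 0, 0, 0, 0, 0, 0]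
/-- The checks on O44. -/
theorem chkO44 : repChk PO44 5279 96 0 0 kbO44 = true := by decide +kernel
/-- The representative O44. -/
noncomputable def rO44 : LL := repL PO44 (repChk_L chkO44)

/-- Digits of the representative D4. -/
abbrev PD4 : ℕ := 343026582035695650923218988129659206
/-- The scan of signs for D4. -/
def kbD4 : List ℕ := [1025, 2178, 3076, 3080, 2192, 3232, 64, 0, 2304, 1664, 0, 0, 128, 3200, 0, 0, 1152, 0, 0, 0, 0, 0, 0, 0]
/-- The checks on D4. -/
theorem chkD4 : repChk PD4 340831 32 0 0 kbD4 = true := by decide +kernel
/-- The representative D4. -/
noncomputable def rD4 : LL := repL PD4 (repChk_L chkD4)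

/-- Digits of the representative C. -/
abbrev PC : ℕ := 219751402528957866084903586578605353
/-- The checks on C. -/
theorem chkC : oddChk PC 8388608 0 = true := by decide +kernel
/-- The representative C. -/
noncomputable def rC : LL := repL PC (oddChk_L chkC)

/-- Digits of the representative P5. -/
abbrev PP5 : ℕ := 552058401475186834310855351648691497
/-- The checks on P5. -/
theorem chkP5 : oddChk PP5 0 8388608 = true := by decide +kernel
/-- The representative P5. -/
noncomputable def rP5 : LL := repL PP5 (oddChk_L chkP5)

/-- Digits of the representative P3. -/
abbrev PP3 : ℕ := 219751402528957866084903586578605221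
/-- The checks on P3. -/
theorem chkP3 : oddChk PP3 8388611 0 = true := by decide +kernel
/-- The representative P3. -/
noncomputable def rP3 : LL := repL PP3 (oddChk_L chkP3)

/-- Digits of the representative P35. -/
abbrev PP35 : ℕ := 219751402528957866084903586578470053
/-- The checks on P35. -/
theorem chkP35 : oddChk PP35 8388623 0 = true := by decide +kernel
/-- The representative P35. -/
noncomputable def rP35 : LL := repL PP35 (oddChk_L chkP35)

/-- Digits of the representative P53. -/
abbrev PP53 : ℕ := 552058401475186834310855351648691365
/-- The checks on P53. -/
theorem chkP53 : oddChk PP53 3 8388608 = true := by decide +kernel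
/-- The representative P53. -/
noncomputable def rP53 : LL := repL PP53 (oddChk_L chkP53)

/-- The scan of signs for the complement of an octad. -/
def kbH : List ℕ := [0, 0, 0, 0, 0, 1193, 199, 0, 398, 659, 0, 2075, 0, 1026, 30, 1172, 1045, 1176, 1037, 0, 0, 0, 0, 0]
/-- Extra words for the complement of an octad. -/
def extraH : List ℕ := [0, 30, 12, 129, 24]
/-- Digits of the first representative with sixteen coordinates. -/
abbrev PH0 : ℕ := 428783224446747053467326754599477512
/-- Digits of the second representative with sixteen coordinates. -/
abbrev PH1 : ℕ := 428783224446747053467326750170292488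
/-- The mask of the two negative coordinates. -/
abbrev mH1 : ℕ := 96

end Cfsg.Agent.Lib.Conway
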